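import Cfsg.Agent.Cit.Nil.CVT.Red
import Cfsg.Agent.Cit.Nil.ROne.FStar

/-!
# (6b)(CV): the top node

* `CVFree` : leaf (CV) of `AssemblyNil`, core-free (`O(C(t)) = 1` for all involutions `t`);
* `cvw` : the world of (CV) in the core-free case: the members are 2-groups;
* `one_of_orth` : no orthogonal members ==> `One`;
* `cvFree_of` : `SimpleStmt` implies `CVFree`.
-/

set_option autoImplicit false
set_option linter.style.haveILetI false
set_option linter.unusedSectionVars false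

namespace Cfsg.Agent.Cit.Nil.CVT

open Subgroup Cfsg Cit Tau CV CV1 Cfsg.Agent.Cit.Comp

universe u

/-- **LEAF (CV), core-free** -/
def CVFree : Prop := ∀ (G : Type u) [Group G] [Finite G], AssemblyNil.FS G →
  (∀ t : G, orderOf t = 2 → centralizerPPrimeCore 2 t = ⊥) → ∀ (K : Subgroup G) (U : Subgroup G → Subgroup G),
  Hyp (cls K) → NilK K → VChoice (cls K) U → ¬ AssemblyNil.Cl G → One (cls K)

section

variable {G : Type u} [Group G] [Finite G] {K L : Subgroup G} {U : Subgroup G → Subgroup G}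

/-- 2-nilpotent with `O(K) = 1` -/
theorem isPGroup_of_nilK (hn : NilK K) (hO : OO K = ⊥) : IsPGroup 2 K := by
  obtain ⟨Q, hQ⟩ := Hyp.exists_syl K
  have h1 := hn Q hQ
  rw [hO, bot_sup_eq] at h1
  exact hQ.2.1.to_le h1

/-- the world of (CV), core-free -/
theorem cvw (hyp : Hyp (cls K)) (hn : NilK K) (hU : VChoice (cls K) U) (hO : OO K = ⊥) : CVW (cls K) U := by
  refine ⟨hyp, ?_, hU, ?_⟩
  · rintro _ ⟨g, rfl⟩
    have h1 := isPGroup_of_nilK hn hO
    exact h1.of_equiv (cjEquiv g K)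
  · rintro _ ⟨g, rfl⟩ _ ⟨g', rfl⟩
    rw [card_cj, card_cj]

theorem le_of_mem_OmS {S P : Subgroup G} (hP : IsPGroup 2 P) (h : ¬ 2 ∣ S.relIndex P) : P ≤ S := by
  rw [← relIndex_eq_one]
  have h1 : S.relIndex P ∣ Nat.card P := S.relIndex_dvd_card P
  haveI : Fact (Nat.Prime 2) := ⟨Nat.prime_two⟩
  obtain ⟨n, hn⟩ := IsPGroup.iff_card.1 hP
  rw [hn, Nat.dvd_prime_pow Nat.prime_two] at h1
  obtain ⟨k, -, hk⟩ := h1
  rcases k with _ | k
  · rw [hk, pow_zero]
  · exact absurd (by rw [hk, pow_succ]; exact Dvd.intro_left _ rfl) h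

/-- no orthogonal members ==> `One` -/
theorem one_of_orth (w : CVW (cls K) U) (h : ∀ L ∈ cls K, ¬ Orth K L) : One (cls K) := by
  refine ⟨w.hyp, ?_⟩
  intro S hS P hP L hL
  by_contra hne
  have hPS : P ≤ S := le_of_mem_OmS (w.two P hP.1) hP.2
  have hLS : L ≤ S := le_of_mem_OmS (w.two L hL.1) hL.2
  have hc : ∀ x ∈ P, ∀ y ∈ L, x * y = y * x := fun x hx y hy =>
    w.hyp.comm hS hP hL hne ⟨hx, hPS hx⟩ ⟨hy, hLS hy⟩
  obtain ⟨g, rfl⟩ := hP.1
  refine h (cj g⁻¹ L) (w.hyp.conj L hL.1 _) ⟨?_, ?_⟩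
  · intro h1
    apply hne
    rw [h1, cj_cj_inv]
  · intro x hx y hy
    rw [mem_cj] at hy
    have h1 := hc _ (conj_mem_cj (g := g) hx) _ hy
    have h2 : g * (x * y) * g⁻¹ = g * (y * x) * g⁻¹ := by
      calc g * (x * y) * g⁻¹ = g * x * g⁻¹ * (g⁻¹⁻¹ * y * g⁻¹) := by group
        _ = g⁻¹⁻¹ * y * g⁻¹ * (g * x * g⁻¹) := h1
        _ = g * (y * x) * g⁻¹ := by group
    simpa using h2

end

/-- **the top node of (CV)** -/
theorem cvFree_of (hev : ∀ (G : Type u) [Group G] [Finite G], EvQ G) (hS : SimpleStmt.{u}) : CVFree.{u} := by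
  intro G _ _ fs hf K U hyp hn hU _
  have hK : K ∈ cls K := self_mem_cls K
  have hO := ROne.OO_eq_bot hyp hK (hf _ (hyp.orderOf_zz hK))
  have w := cvw hyp hn hU hO
  exact one_of_orth w (hS G K U (generalizedFittingSubgroup G)
    ⟨w, ROne.fsimp_of fs.simple fs.na, fs.even, tLt hev hS _⟩)

end Cfsg.Agent.Cit.Nil.CVT
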