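import Cfsg.Agent.Cit.Nil.CVT.Unl
import Cfsg.Agent.Cit.Nil.CV.NilT

/-!
# (6b)(CV), the frame: `IndCV` from T

* `U_le_OT` : `zz K ∈ O_2(C(e))` implies `U K ≤ O_2(C(e))`;
* `ExStmt` : the clause `ex` of `OneBlk`;
* `indCV_of` : `IndCV` in a core-free group with trivial centre, from T for the groups of smaller order.
-/

set_option autoImplicit false
set_option linter.style.haveILetI false
set_option linter.unusedSectionVars false

namespace Cfsg.Agent.Cit.Nil.CVT

open Subgroup Cfsg Cit Tau CV CV1 Cfsg.Agent.Cit.Comp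

universe u

/-- the clause `ex` of `OneBlk` -/
def ExStmt : Prop := ∀ (G : Type u) [Group G] [Finite G] (Om : Set (Subgroup G)) (U : Subgroup G → Subgroup G)
  (K X A : Subgroup G) (e v : G), CVW Om U → K ∈ Om → SNC (centralizer {e}) K X → pPrimeCore 2 X = ⊥ →
  zz K ∉ (pCore 2 X).map X.subtype → (∀ M ∈ BL K X, ∀ N ∈ BL K X, ¬ Orth M N) → IsA Om U A → e ∈ A → v ∈ U K →
  v ∈ RR Om U A → ∃ N ∈ BL K X, zz N ∈ normalizer (A : Set G) ∧ zz N ∉ A

section

variable {G : Type u} [Group G] [Finite G] {Om : Set (Subgroup G)} {U : Subgroup G → Subgroup G}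
  {A H K L M N X : Subgroup G} {a e g v w x y : G}

theorem U_le_OT (h : CVW Om U) (hK : K ∈ Om) (hKe : K ≤ centralizer {e}) (hz : zz K ∈ OT e) : U K ≤ OT e := by
  have h1 : zz (K.subgroupOf (centralizer {e})) ∈ pCore 2 (centralizer ({e} : Set G)) := by
    obtain ⟨x, hx, hxz⟩ := hz
    have h2 : zz (K.subgroupOf (centralizer {e})) = x := by
      apply Subtype.ext
      rw [coe_zz h hK hKe]
      exact hxz.symm
    rw [h2]
    exact hx
  have h2 := (CVW.restr h (centralizer {e})).nil (subgroupOf_mem_restr hK hKe) h1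
  intro x hx
  refine ⟨⟨x, hKe (h.vch.le K hK hx)⟩, h2 ?_, rfl⟩
  rw [mem_uH, map_subgroupOf_eq_of_le hKe]
  exact hx

theorem pPrimeCore_cent (h : centralizerPPrimeCore 2 e = ⊥) : pPrimeCore 2 (centralizer ({e} : Set G)) = ⊥ := by
  rw [centralizerPPrimeCore] at h
  exact (Subgroup.map_eq_bot_iff_of_injective _ (Subgroup.subtype_injective _)).1 h

/-- **`IndCV` from T** -/
theorem indCV_of (hR : R1Stmt.{u}) (hEx : ExStmt.{u}) (h : CVW Om U)
    (hcf : ∀ t : G, orderOf t = 2 → centralizerPPrimeCore 2 t = ⊥) (hZ : ∀ e : G, e ≠ 1 → centralizer {e} ≠ ⊤)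
    (ih : TLt.{u} (Nat.card G)) : IndCV Om U := by
  intro A hA e he he2 he1 v hv hve
  obtain ⟨hvA, hv4, K, hK, hvK⟩ := id hv
  have hKe := (h.le_cent_iff hA hK hvK hv4 hvA he).2 hve
  have hH := pPrimeCore_cent (hcf e (orderOf_eq_prime (by rw [pow_two, he2]) he1))
  by_cases hot : zz K ∈ OT e
  · exact Or.inl (U_le_OT h hK hKe hot hvK)
  right
  obtain ⟨X, hX⟩ := exists_snc hKe
  have hXt : X ≠ ⊤ := fun hh => hZ e he1 (top_le_iff.1 (hh.symm.trans_le hX.XH))
  have hzX : zz K ∉ (pCore 2 X).map X.subtype := fun hh => hot (hX.two hh)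
  have hone := (hX.cases h hK hH ih hXt).resolve_left hzX
  have hXe : X ≤ centralizer {e} := hX.XH
  have b : OneBlk Om U A e (BL K X) := by
    refine ⟨fun L hL => ⟨BL_mem h hK hL, (BL_le hX.KX hL).trans hXe⟩, ?_, ?_, ?_, ?_⟩
    · intro L hL g hg hgL N hN
      exact hX.cj_BL (le_normalizer (mem_centralizer_singleton_iff.2 hg)) hL hgL hN
    · rintro L hL M hM hMe ⟨y, hy, x, hx, hxM⟩
      exact hX.lk_BL hL hMe hy hx hxM
    · intro L hL M hM hc
      by_contra hne
      exact hone L hL M hM ⟨hne, hc⟩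
    · intro L hL hLA
      have hLO := BL_mem h hK hL
      obtain ⟨u, hu, hu4⟩ := h.exists_v hLO
      have hXL := hX.of_BL hL
      have hBL : BL L X = BL K X := by
        obtain ⟨g, hg, rfl⟩ := hL
        ext M
        constructor
        · rintro ⟨a, ha, rfl⟩
          exact ⟨a * g, X.mul_mem ha hg, by rw [cj_mul]⟩
        · rintro ⟨a, ha, rfl⟩
          refine ⟨a * g⁻¹, X.mul_mem ha (X.inv_mem hg), ?_⟩
          rw [cj_mul, cj_inv_cj]
      have hzL : zz L ∉ (pCore 2 X).map X.subtype := by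
        intro hh
        apply hzX
        obtain ⟨g, hg, rfl⟩ := hL
        rw [h.hyp.zz_cj hK] at hh
        obtain ⟨x, hx, hxz⟩ := hh
        refine ⟨(⟨g, hg⟩ : X)⁻¹ * x * ⟨g, hg⟩, ?_, ?_⟩
        · have h1 := (Lib.Cores.pCore_normal (G := X) 2).conj_mem x hx (⟨g, hg⟩ : X)⁻¹
          rwa [inv_inv] at h1
        · have hxz' : (x : G) = g * zz K * g⁻¹ := hxz
          show g⁻¹ * (x : G) * g = zz K
          rw [hxz']
          group
      have h1 := hEx G Om U L X A e u h hLO hXL (hXL.odd hH) hzL (by rw [hBL]; exact hone) hA he hu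
        ⟨hLA hu, hu4, L, hLO, hu⟩
      rwa [hBL] at h1
  by_cases hall : ∀ u ∈ RB Om U A (BL K X), ¬ Lk Om U v u
  · left
    refine b.lTwo_of h hA he self_mem_BL hvK hv4 hvA hall fun L hL hLe hz => ?_
    by_contra hne
    have h1 := le_of_unl hR h hH hK hL hz.symm (fun hh => hne hh.symm) hKe hLe
      (fun M hM hMe => unl_of_hall h hA he hK hX hvK hv hall hM hMe)
    exact hot (h1 (h.hyp.zz_mem hK))
  · right
    push Not at hall
    obtain ⟨w, hw, hl⟩ := hall
    exact b.lThree_of h hA he ⟨hv, K, self_mem_BL, hvK⟩ hw hl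

end

end Cfsg.Agent.Cit.Nil.CVT
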