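import Cfsg.Agent.Cit.Nil.CVT.Comp
import Cfsg.Agent.Cit.Nil.AbSyl
import Cfsg.Agent.Cit.Nil.NoHomo
import Cfsg.Agent.Cit.Nil.ROne.Close
import Cfsg.Agent.Cit.CorTwo
import Cfsg.Agent.Cit.CloBenZ
import Cfsg.Agent.TwoFusion.StronglyEmbeddedBasic

/-!
# (6b)(CV), the frame: a strongly closed four-group `{1, z₁, z₂, z₃}`

`Tri` : `F` is simple, normal in `G`, with trivial centraliser; the class of `K` has no orthogonal members; exactly three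
members have their involutions in the Sylow 2-subgroup `T`; `V₁ V₂ ≤ T`, `v₁ v₂ v₃ = 1`.

* `Tri.zF` : the involutions `zz N` are in `F`;
* `Tri.exists_rot` : if `R = T ∩ F` centralises the three involutions, there is a 3-element `g` of `N_F(R)` moving them;
* `Tri.false_of` : contradiction.
-/

set_option autoImplicit false
set_option linter.style.haveILetI false
set_option linter.unusedSectionVars false

namespace Cfsg.Agent.Cit.Nil.CVT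

open Subgroup Cfsg Cit Tau CV CV1 Cfsg.Agent.Cit.Comp
open Cfsg.Agent.Cit.Nil.ROne (FSimp)

variable {G : Type*} [Group G] {U : Subgroup G → Subgroup G} {F K K₁ K₂ K₃ L M N R T : Subgroup G}
  {f g n r s t v v₁ v₂ v₃ w x y z : G}

/-- three members with their involutions in `T` -/
structure Tri (K : Subgroup G) (U : Subgroup G → Subgroup G) (F T K₁ K₂ K₃ : Subgroup G) (v₁ v₂ v₃ : G) : Prop where
  cvw : CVW (cls K) U
  no : ∀ M ∈ cls K, ∀ N ∈ cls K, ¬ Orth M N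
  f : FSimp F
  even : 2 ∣ Nat.card F
  syl : Syl T ⊤
  m1 : K₁ ∈ cls K
  m2 : K₂ ∈ cls K
  m3 : K₃ ∈ cls K
  u1 : v₁ ∈ U K₁
  u2 : v₂ ∈ U K₂
  u3 : v₃ ∈ U K₃
  o1 : orderOf v₁ = 4
  o2 : orderOf v₂ = 4
  o3 : orderOf v₃ = 4
  t1 : v₁ ∈ T
  t2 : v₂ ∈ T
  t3 : v₃ ∈ T
  n12 : K₁ ≠ K₂
  n13 : K₁ ≠ K₃
  n23 : K₂ ≠ K₃
  c12 : v₁ * v₂ = v₂ * v₁
  prod : v₁ * v₂ * v₃ = 1
  all : ∀ N ∈ cls K, zz N ∈ T → N = K₁ ∨ N = K₂ ∨ N = K₃

namespace Tri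

variable [Finite G] (q : Tri K U F T K₁ K₂ K₃ v₁ v₂ v₃)
include q

theorem three_eq : v₃ = v₁⁻¹ * v₂⁻¹ := by
  have h1 := q.prod
  rw [q.c12] at h1
  rw [eq_inv_of_mul_eq_one_right h1, mul_inv_rev]

theorem c13 : v₁ * v₃ = v₃ * v₁ := by
  rw [q.three_eq]
  have h1 : Commute v₁ v₂ := q.c12
  exact ((Commute.refl v₁).inv_right.mul_right h1.inv_right).eq

theorem c23 : v₂ * v₃ = v₃ * v₂ := by
  rw [q.three_eq]
  have h1 : Commute v₁ v₂ := q.c12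
  exact (h1.symm.inv_right.mul_right (Commute.refl v₂).inv_right).eq

theorem rot : Tri K U F T K₂ K₃ K₁ v₂ v₃ v₁ where
  cvw := q.cvw
  no := q.no
  f := q.f
  even := q.even
  syl := q.syl
  m1 := q.m2
  m2 := q.m3
  m3 := q.m1
  u1 := q.u2
  u2 := q.u3
  u3 := q.u1
  o1 := q.o2
  o2 := q.o3
  o3 := q.o1
  t1 := q.t2
  t2 := q.t3
  t3 := q.t1
  n12 := q.n23
  n13 := q.n12.symm
  n23 := q.n13.symm
  c12 := q.c23
  prod := by
    have h1 := q.prod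
    rw [mul_assoc] at h1
    rw [eq_inv_of_mul_eq_one_right h1, inv_mul_cancel]
  all N hN hz := by
    have := q.all N hN hz
    tauto

theorem swap : Tri K U F T K₁ K₃ K₂ v₁ v₃ v₂ where
  cvw := q.cvw
  no := q.no
  f := q.f
  even := q.even
  syl := q.syl
  m1 := q.m1
  m2 := q.m3
  m3 := q.m2
  u1 := q.u1
  u2 := q.u3
  u3 := q.u2
  o1 := q.o1
  o2 := q.o3
  o3 := q.o2
  t1 := q.t1
  t2 := q.t3
  t3 := q.t2
  n12 := q.n13
  n13 := q.n12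
  n23 := q.n23.symm
  c12 := q.c13
  prod := by
    have h1 := q.prod
    rw [mul_assoc] at h1 ⊢
    rw [← q.c23]
    exact h1
  all N hN hz := by
    have := q.all N hN hz
    tauto

/-- the involutions are in `F` -/
theorem zF (hN : N ∈ cls K) : zz N ∈ F := by
  haveI := q.f.nor
  by_contra hz
  have hO : OO F = ⊥ := by
    by_contra hO
    have h1 := q.f.le (N := OO F) (fun g hg n hn => by
      have h2 : Cit.cj g (OO F) = OO F := by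
        rw [← OO_cj, mem_normalizer_iff_cj.1 (le_normalizer hg)]
      rw [← h2]
      exact conj_mem_cj hn) hO
    exact odd_OO F (q.even.trans (card_dvd_of_le h1))
  have h1 := q.cvw.hyp.lemma_two (fun L hL => q.cvw.two L hL) hN
    (by rw [normalizer_eq_top_iff.2 q.f.nor]; exact le_top) hO hz
  have h2 : zz N ∈ centralizer (F : Set G) := by
    rw [mem_centralizer_iff]
    exact fun x hx => mem_centralizer_singleton_iff.1 (h1 hx)
  rw [q.f.cen, mem_bot] at h2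
  exact q.cvw.hyp.zz_ne hN h2

/-- `zz` is injective -/
theorem inj (hM : M ∈ cls K) (hN : N ∈ cls K) (hz : zz M = zz N) : M = N := by
  by_contra hne
  exact q.no M hM N hN ⟨hne, fun x hx y hy => q.cvw.comm_of_zz_eq hM hN hz hne hx hy⟩

theorem norm_of (hM : M ∈ cls K) (hg : g * zz M = zz M * g) : g ∈ normalizer (M : Set G) := by
  rw [mem_normalizer_iff_cj]
  refine q.inj (q.cvw.hyp.conj M hM g) hM ?_
  rw [q.cvw.hyp.zz_cj hM, hg, mul_inv_cancel_right]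

theorem z1 : v₁ * v₁ = zz K₁ := q.cvw.sq_eq q.m1 q.u1 q.o1

theorem zT : zz K₁ ∈ T := by rw [← q.z1]; exact T.mul_mem q.t1 q.t1

/-- the members over `T` are permuted -/
theorem mem3 (hM : M = K₁ ∨ M = K₂ ∨ M = K₃) (hg : g * zz M * g⁻¹ ∈ T) :
    Cit.cj g M = K₁ ∨ Cit.cj g M = K₂ ∨ Cit.cj g M = K₃ := by
  have hM' : M ∈ cls K := by
    rcases hM with rfl | rfl | rfl
    · exact q.m1
    · exact q.m2
    · exact q.m3
  exact q.all _ (q.cvw.hyp.conj M hM' g) (by rw [q.cvw.hyp.zz_cj hM']; exact hg)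

/-- `R = T ∩ F` is a Sylow 2-subgroup of `F` -/
theorem sylR : Syl (T ⊓ F) F := by
  haveI := q.f.nor
  exact AbSyl.syl_inf_normal q.syl

/-- a 2-element of `N_F(R)` is in `R` -/
theorem mem_R (hx : x ∈ F) (hn : x ∈ normalizer (T ⊓ F : Subgroup G)) {k : ℕ} (hk : x ^ 2 ^ k = 1) : x ∈ T ⊓ F := by
  haveI : Fact (Nat.Prime 2) := ⟨Nat.prime_two⟩
  have h1 : IsPGroup 2 (zpowers x) := by
    have h2 := orderOf_dvd_of_pow_eq_one hk
    obtain ⟨j, -, hj⟩ := (Nat.dvd_prime_pow Nat.prime_two).1 h2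
    exact IsPGroup.of_card (n := j) (by rw [Nat.card_zpowers, hj])
  have h2 : IsPGroup 2 (zpowers x ⊔ (T ⊓ F) : Subgroup G) :=
    h1.to_sup_of_normal_right' q.sylR.2.1 (zpowers_le.2 hn)
  have h3 := q.sylR.eq_of_le (R := zpowers x ⊔ (T ⊓ F)) le_sup_right (sup_le (zpowers_le.2 hx) inf_le_right) h2
  rw [h3]
  exact mem_sup_left (mem_zpowers x)

/-- Glauberman's theorem -/
theorem exists_move : ∃ f ∈ F, zz K₁ * (f * zz K₁ * f⁻¹) = f * zz K₁ * f⁻¹ * zz K₁ ∧ f * zz K₁ * f⁻¹ ≠ zz K₁ := by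
  by_contra hcon
  push Not at hcon
  have hzF := q.zF q.m1
  obtain ⟨N, hN, hNodd, hNz⟩ := GH.QA.zstar (G := F) (u := ⟨zz K₁, hzF⟩) (Subtype.ext (q.cvw.hyp.zz_mul q.m1))
    (fun h1 => q.cvw.hyp.zz_ne q.m1 (congrArg Subtype.val h1)) (by
      rintro ⟨x, hx⟩ h1
      exact Subtype.ext (hcon x hx (congrArg Subtype.val h1)))
  haveI := q.f.sim
  rcases hN.eq_bot_or_eq_top with h1 | h1
  · rw [h1] at hNz
    have h2 : zz K₁ ∈ centralizer (F : Set G) := by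
      rw [mem_centralizer_iff]
      intro x hx
      have h3 := hNz ⟨x, hx⟩
      rw [Subgroup.mem_bot, mul_inv_eq_one, mul_inv_eq_iff_eq_mul] at h3
      exact (congrArg Subtype.val h3).symm
    rw [q.f.cen, Subgroup.mem_bot] at h2
    exact q.cvw.hyp.zz_ne q.m1 h2
  · rw [h1] at hNodd
    have h2 := q.even
    rw [← card_top (G := F)] at h2
    rw [← Nat.not_even_iff_odd, even_iff_two_dvd] at hNodd
    exact hNodd h2

/-- `z₁` is conjugate in `F` to `z₂` or `z₃` -/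
theorem exists_fus : ∃ y ∈ F, Cit.cj y K₁ = K₂ ∨ Cit.cj y K₁ = K₃ := by
  haveI : Fact (Nat.Prime 2) := ⟨Nat.prime_two⟩
  obtain ⟨f, hf, hc, hne⟩ := q.exists_move
  haveI := q.f.nor
  have hzF := q.zF q.m1
  have hz2 : ∀ g : G, IsPGroup 2 (zpowers (g * zz K₁ * g⁻¹)) := by
    intro g
    rw [← q.cvw.hyp.zz_cj q.m1]
    exact (q.cvw.two _ (q.cvw.hyp.conj _ q.m1 g)).to_le (zpowers_le.2 (q.cvw.hyp.zz_mem (q.cvw.hyp.conj _ q.m1 g)))
  obtain ⟨V, hV⟩ : ∃ V, V = zpowers (zz K₁) ⊔ zpowers (f * zz K₁ * f⁻¹) := ⟨_, rfl⟩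
  have hV2 : IsPGroup 2 V := by
    rw [hV]
    refine IsPGroup.to_sup_of_normal_right' ?_ (hz2 f) ?_
    · have := hz2 1
      rwa [one_mul, inv_one, mul_one] at this
    · rw [zpowers_le]
      refine centralizer_le_normalizer _ ?_
      intro x hx
      obtain ⟨i, rfl⟩ := mem_zpowers_iff.1 hx
      exact ((Commute.zpow_right (show Commute (zz K₁) (f * zz K₁ * f⁻¹) from hc) i).symm).eq
  have hVF : V ≤ F := by
    rw [hV]
    exact sup_le (zpowers_le.2 hzF) (zpowers_le.2 (q.f.nor.conj_mem _ hzF f))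
  obtain ⟨Q, hQ, hVQ⟩ := exists_syl_ge hV2 hVF
  obtain ⟨x, hx, hxQ⟩ := hQ.exists_conj q.sylR
  have h1 : x * zz K₁ * x⁻¹ ∈ T := by
    have h2 : x * zz K₁ * x⁻¹ ∈ Cit.cj x Q := conj_mem_cj (hVQ (by rw [hV]; exact mem_sup_left (mem_zpowers _)))
    rw [hxQ] at h2
    exact h2.1
  have h2 : (x * f) * zz K₁ * (x * f)⁻¹ ∈ T := by
    have h3 : x * (f * zz K₁ * f⁻¹) * x⁻¹ ∈ Cit.cj x Q :=
      conj_mem_cj (hVQ (by rw [hV]; exact mem_sup_right (mem_zpowers _)))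
    rw [hxQ] at h3
    have h4 : (x * f) * zz K₁ * (x * f)⁻¹ = x * (f * zz K₁ * f⁻¹) * x⁻¹ := by group
    rw [h4]
    exact h3.1
  rcases q.mem3 (Or.inl rfl) h1 with h3 | h3 | h3
  · rcases q.mem3 (Or.inl rfl) h2 with h4 | h4 | h4
    · exfalso
      apply hne
      have h5 : Cit.cj f K₁ = K₁ := by
        rw [cj_mul] at h4
        have h6 : Cit.cj x (Cit.cj f K₁) = Cit.cj x K₁ := by rw [h4, h3]
        exact cj_inj.1 h6
      rw [← q.cvw.hyp.zz_cj q.m1, h5]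
    · exact ⟨x * f, F.mul_mem hx hf, Or.inl h4⟩
    · exact ⟨x * f, F.mul_mem hx hf, Or.inr h4⟩
  · exact ⟨x, hx, Or.inl h3⟩
  · exact ⟨x, hx, Or.inr h3⟩

/-- Burnside's argument -/
theorem exists_norm (hc1 : ∀ r ∈ T ⊓ F, r * zz K₁ = zz K₁ * r) (hc2 : ∀ r ∈ T ⊓ F, r * zz K₂ = zz K₂ * r)
    {y : G} (hy : y ∈ F) (hyK : Cit.cj y K₁ = K₂) :
    ∃ n ∈ F, n ∈ normalizer (T ⊓ F : Subgroup G) ∧ Cit.cj n K₁ = K₂ := by
  haveI := q.f.nor
  obtain ⟨D, hD⟩ : ∃ D, D = F ⊓ centralizer {zz K₂} := ⟨_, rfl⟩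
  have hDF : D ≤ F := by rw [hD]; exact inf_le_left
  have h1 : T ⊓ F ≤ D := by
    rw [hD]
    exact le_inf inf_le_right fun r hr => mem_centralizer_singleton_iff.2 (hc2 r hr)
  have hz : y * zz K₁ * y⁻¹ = zz K₂ := by rw [← q.cvw.hyp.zz_cj q.m1, hyK]
  have hyF : Cit.cj y F = F := mem_normalizer_iff_cj.1 (le_normalizer hy)
  have h2 : Cit.cj y (T ⊓ F) ≤ D := by
    rw [hD]
    refine le_inf ((cj_mono y inf_le_right).trans hyF.le) ?_
    rintro _ ⟨r, hr, rfl⟩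
    refine mem_centralizer_singleton_iff.2 ?_
    change y * r * y⁻¹ * zz K₂ = zz K₂ * (y * r * y⁻¹)
    rw [← hz]
    calc y * r * y⁻¹ * (y * zz K₁ * y⁻¹) = y * (r * zz K₁) * y⁻¹ := by group
      _ = y * zz K₁ * y⁻¹ * (y * r * y⁻¹) := by rw [hc1 r hr]; group
  have hR' : Syl (Cit.cj y (T ⊓ F)) F := by
    have := q.sylR.cj y
    rwa [hyF] at this
  obtain ⟨Q1, hQ1, hRQ1⟩ := exists_syl_ge q.sylR.2.1 h1
  obtain ⟨Q2, hQ2, hRQ2⟩ := exists_syl_ge hR'.2.1 h2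
  have e1 := q.sylR.eq_of_le hRQ1 (hQ1.1.trans hDF) hQ1.2.1
  have e2 := hR'.eq_of_le hRQ2 (hQ2.1.trans hDF) hQ2.2.1
  obtain ⟨d, hd, hdQ⟩ := hQ2.exists_conj hQ1
  rw [← e1, ← e2] at hdQ
  rw [hD] at hd
  refine ⟨d * y, F.mul_mem hd.1 hy, ?_, ?_⟩
  · rw [mem_normalizer_iff_cj, cj_mul, hdQ]
  · rw [cj_mul, hyK]
    exact mem_normalizer_iff_cj.1 (q.norm_of q.m2 (mem_centralizer_singleton_iff.1 hd.2))

/-- **the rotation** -/
theorem exists_rot (hc : ∀ r ∈ T ⊓ F, r * zz K₁ = zz K₁ * r ∧ r * zz K₂ = zz K₂ * r ∧ r * zz K₃ = zz K₃ * r) :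
    ∃ K₂' K₃' v₂' v₃', Tri K U F T K₁ K₂' K₃' v₁ v₂' v₃' ∧
      (∀ r ∈ T ⊓ F, r * zz K₁ = zz K₁ * r ∧ r * zz K₂' = zz K₂' * r ∧ r * zz K₃' = zz K₃' * r) ∧
      ∃ g ∈ F, g ∈ normalizer (T ⊓ F : Subgroup G) ∧ (∃ b : ℕ, g ^ 3 ^ b = 1) ∧ Cit.cj g K₁ = K₂' ∧
        Cit.cj g K₂' = K₃' ∧ Cit.cj g K₃' = K₁ := by
  -- a moving element
  obtain ⟨y, hy, hyK⟩ := q.exists_fus
  have key : ∀ {K₂ K₃ v₂ v₃}, Tri K U F T K₁ K₂ K₃ v₁ v₂ v₃ →
      (∀ r ∈ T ⊓ F, r * zz K₁ = zz K₁ * r ∧ r * zz K₂ = zz K₂ * r ∧ r * zz K₃ = zz K₃ * r) → Cit.cj y K₁ = K₂ →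
      ∃ K₂' K₃' v₂' v₃', Tri K U F T K₁ K₂' K₃' v₁ v₂' v₃' ∧
      (∀ r ∈ T ⊓ F, r * zz K₁ = zz K₁ * r ∧ r * zz K₂' = zz K₂' * r ∧ r * zz K₃' = zz K₃' * r) ∧
      ∃ g ∈ F, g ∈ normalizer (T ⊓ F : Subgroup G) ∧ (∃ b : ℕ, g ^ 3 ^ b = 1) ∧ Cit.cj g K₁ = K₂' ∧
        Cit.cj g K₂' = K₃' ∧ Cit.cj g K₃' = K₁ := by
    clear hc hyK q
    intro K₂ K₃ v₂ v₃ q hc hyK
    obtain ⟨n, hn, hnR, hnK⟩ := q.exists_norm (fun r hr => (hc r hr).1) (fun r hr => (hc r hr).2.1) hy hyK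
    have hzR : ∀ {M}, M = K₁ ∨ M = K₂ ∨ M = K₃ → zz M ∈ T ⊓ F := by
      intro M hM
      rcases hM with rfl | rfl | rfl
      · exact ⟨q.zT, q.zF q.m1⟩
      · exact ⟨q.rot.zT, q.zF q.m2⟩
      · exact ⟨q.rot.rot.zT, q.zF q.m3⟩
    have hperm : ∀ {M}, M = K₁ ∨ M = K₂ ∨ M = K₃ → Cit.cj n M = K₁ ∨ Cit.cj n M = K₂ ∨ Cit.cj n M = K₃ := by
      intro M hM
      exact q.mem3 hM ((mem_normalizer_iff.1 hnR _).1 (hzR hM)).1
    have hinj : ∀ {M N : Subgroup G}, Cit.cj n M = Cit.cj n N → M = N := fun h1 => cj_inj.1 h1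
    rcases hperm (Or.inr (Or.inl rfl)) with h2 | h2 | h2
    · -- a transposition
      exfalso
      obtain ⟨a, m, hm, ho⟩ := Nat.exists_eq_two_pow_mul_odd (orderOf_pos n).ne'
      have h3 : n ^ m ∈ T ⊓ F := by
        refine q.mem_R (F.pow_mem hn m) ((normalizer ((T ⊓ F : Subgroup G) : Set G)).pow_mem hnR m) (k := a) ?_
        rw [← pow_mul, mul_comm m, ← ho, pow_orderOf_eq_one]
      have h4 := mem_normalizer_iff_cj.1 (q.norm_of q.m1 (hc _ h3).1)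
      have h5 : n * n ∈ normalizer (K₁ : Set G) := by
        rw [mem_normalizer_iff_cj, cj_mul, hnK, h2]
      obtain ⟨j, hj⟩ := hm
      have h6 : n ^ m = n * (n * n) ^ j := by
        rw [hj, ← pow_two, ← pow_mul, ← pow_succ']
      have h7 := mem_normalizer_iff_cj.1 ((normalizer (K₁ : Set G)).pow_mem h5 j)
      rw [h6, cj_mul, h7, hnK] at h4
      exact q.n12 h4.symm
    · exact (q.n12 (hinj (hnK.trans h2.symm))).elim
    · -- a cycle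
      have h3 : Cit.cj n K₃ = K₁ := by
        rcases hperm (Or.inr (Or.inr rfl)) with h3 | h3 | h3
        · exact h3
        · exact (q.n13 (hinj (hnK.trans h3.symm))).elim
        · exact (q.n23 (hinj (h2.trans h3.symm))).elim
      obtain ⟨b, k, hk3, ho⟩ := Nat.exists_eq_pow_mul_and_not_dvd (orderOf_pos n).ne' 3 (by norm_num)
      have hg1 : n ^ k ∈ F := F.pow_mem hn k
      have hg2 : n ^ k ∈ normalizer (T ⊓ F : Subgroup G) := (normalizer ((T ⊓ F : Subgroup G) : Set G)).pow_mem hnR k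
      have hg3 : (n ^ k) ^ 3 ^ b = 1 := by
        rw [← pow_mul, mul_comm k, ← ho, pow_orderOf_eq_one]
      -- the action of `n ^ 3`
      have c1 : n ^ 3 ∈ normalizer (K₁ : Set G) := by
        rw [mem_normalizer_iff_cj, pow_succ, pow_two, cj_mul, cj_mul, hnK, h2, h3]
      have c2 : n ^ 3 ∈ normalizer (K₂ : Set G) := by
        rw [mem_normalizer_iff_cj, pow_succ, pow_two, cj_mul, cj_mul, h2, h3, hnK]
      have c3 : n ^ 3 ∈ normalizer (K₃ : Set G) := by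
        rw [mem_normalizer_iff_cj, pow_succ, pow_two, cj_mul, cj_mul, h3, hnK, h2]
      have hmod : ∀ (M : Subgroup G), n ^ 3 ∈ normalizer (M : Set G) → Cit.cj (n ^ k) M = Cit.cj (n ^ (k % 3)) M := by
        intro M hM
        have h4 : n ^ k = n ^ (k % 3) * (n ^ 3) ^ (k / 3) := by
          rw [← pow_mul, ← pow_add, Nat.mod_add_div]
        rw [h4, cj_mul, mem_normalizer_iff_cj.1 ((normalizer (M : Set G)).pow_mem hM _)]
      have hk : k % 3 = 1 ∨ k % 3 = 2 := by omega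
      rcases hk with hk | hk
      · refine ⟨K₂, K₃, v₂, v₃, q, hc, n ^ k, hg1, hg2, ⟨b, hg3⟩, ?_, ?_, ?_⟩
        · rw [hmod _ c1, hk, pow_one, hnK]
        · rw [hmod _ c2, hk, pow_one, h2]
        · rw [hmod _ c3, hk, pow_one, h3]
      · refine ⟨K₃, K₂, v₃, v₂, q.swap, fun r hr => ⟨(hc r hr).1, (hc r hr).2.2, (hc r hr).2.1⟩, n ^ k, hg1, hg2,
          ⟨b, hg3⟩, ?_, ?_, ?_⟩
        · rw [hmod _ c1, hk, pow_two, cj_mul, hnK, h2]
        · rw [hmod _ c3, hk, pow_two, cj_mul, h3, hnK]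
        · rw [hmod _ c2, hk, pow_two, cj_mul, h2, h3]
  rcases hyK with h1 | h1
  · exact key q hc h1
  · exact key q.swap (fun r hr => ⟨(hc r hr).1, (hc r hr).2.2, (hc r hr).2.1⟩) h1

/-! ### The rotation -/

/-- `v₁`, `v₂ ∈ F` -/
theorem mem_F (hg : g ∈ F) (g1 : Cit.cj g K₁ = K₂) (g2 : Cit.cj g K₂ = K₃) (g3 : Cit.cj g K₃ = K₁) :
    v₁ ∈ F ∧ v₂ ∈ F := by
  haveI := q.f.nor
  have hcf : ∀ x, g * x * g⁻¹ * x⁻¹ ∈ F := by
    intro x
    have h1 : g * x * g⁻¹ * x⁻¹ = g * (x * g⁻¹ * x⁻¹) := by group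
    rw [h1]
    exact F.mul_mem hg (q.f.nor.conj_mem _ (F.inv_mem hg) x)
  have a1 : g * v₁ * g⁻¹ = v₂ ∨ g * v₁ * g⁻¹ = v₂⁻¹ := by
    have h1 := q.cvw.vch.conj_mem q.m1 q.u1 g
    rw [g1] at h1
    exact q.cvw.eq_or_inv q.m2 q.u2 q.o2 h1 (orderOf_conj_four q.o1 g)
  have a2 : g * v₂ * g⁻¹ = v₃ ∨ g * v₂ * g⁻¹ = v₃⁻¹ := by
    have h1 := q.cvw.vch.conj_mem q.m2 q.u2 g
    rw [g2] at h1
    exact q.cvw.eq_or_inv q.m3 q.u3 q.o3 h1 (orderOf_conj_four q.o2 g)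
  have a3 : g * v₃ * g⁻¹ = v₁ ∨ g * v₃ * g⁻¹ = v₁⁻¹ := by
    have h1 := q.cvw.vch.conj_mem q.m3 q.u3 g
    rw [g3] at h1
    exact q.cvw.eq_or_inv q.m1 q.u1 q.o1 h1 (orderOf_conj_four q.o3 g)
  have b1 := hcf v₁
  have b2 := hcf v₂
  have b3 := hcf v₃
  have e3 := q.three_eq
  have c12 := q.c12
  have hmul : ∀ {x y}, x * y ∈ F → x ∈ F → y ∈ F := fun {x y} h1 h2 => (mul_mem_cancel_left h2).1 h1
  have hmul' : ∀ {x y}, x * y ∈ F → y ∈ F → x ∈ F := fun {x y} h1 h2 => (mul_mem_cancel_right h2).1 h1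
  rcases a1 with a1 | a1
  · rcases a2 with a2 | a2
    · rcases a3 with a3 | a3
      · rw [a1] at b1
        rw [a2] at b2
        -- `v₂ ^ 3`
        have h1 : (v₂ * v₁⁻¹) * (v₃ * v₂⁻¹)⁻¹ ∈ F := F.mul_mem b1 (F.inv_mem b2)
        have h2 : (v₂ * v₁⁻¹) * (v₃ * v₂⁻¹)⁻¹ = v₂⁻¹ := by
          have h3 : v₂ ^ 4 = 1 := by rw [← q.o2]; exact pow_orderOf_eq_one v₂
          have h4 : v₂ * (v₂ * v₁) = v₁ * (v₂ * v₂) := by rw [← c12, ← mul_assoc, ← c12, mul_assoc]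
          calc (v₂ * v₁⁻¹) * (v₃ * v₂⁻¹)⁻¹ = v₂ * v₁⁻¹ * (v₂ * (v₂ * v₁)) := by
                rw [e3, mul_inv_rev, mul_inv_rev, inv_inv, inv_inv]
            _ = v₂ * (v₂ * v₂) := by rw [h4, mul_assoc, inv_mul_cancel_left]
            _ = v₂ ^ 4 * v₂⁻¹ := by simp [pow_succ, mul_assoc]
            _ = v₂⁻¹ := by rw [h3, one_mul]
        rw [h2] at h1
        have h3 : v₂ ∈ F := by
          have := F.inv_mem h1
          rwa [inv_inv] at this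
        exact ⟨by have := F.inv_mem (hmul b1 h3); rwa [inv_inv] at this, h3⟩
      · rw [a3] at b3
        have h1 : v₁⁻¹ * v₃⁻¹ = v₂ := by
          rw [e3, mul_inv_rev, inv_inv, inv_inv, ← c12, inv_mul_cancel_left]
        rw [h1] at b3
        rw [a1] at b1
        exact ⟨by have := F.inv_mem (hmul b1 b3); rwa [inv_inv] at this, b3⟩
    · rw [a2] at b2
      have h1 : v₃⁻¹ * v₂⁻¹ = v₁ := by
        rw [e3, mul_inv_rev, inv_inv, inv_inv, ← c12, mul_inv_cancel_right]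
      rw [h1] at b2
      rw [a1] at b1
      exact ⟨b2, hmul' b1 (F.inv_mem b2)⟩
  · rw [a1] at b1
    have h1 : v₂⁻¹ * v₁⁻¹ = v₃ := by rw [e3, ← mul_inv_rev, ← mul_inv_rev, c12]
    rw [h1] at b1
    rcases a2 with a2 | a2
    · rw [a2] at b2
      have h2 : v₂ ∈ F := by
        have := F.inv_mem (hmul b2 b1)
        rwa [inv_inv] at this
      refine ⟨?_, h2⟩
      rw [e3] at b1
      have := F.inv_mem (hmul' b1 (F.inv_mem h2))
      rwa [inv_inv] at this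
    · rw [a2] at b2
      have h2 : v₂ ∈ F := by
        have := F.inv_mem (hmul b2 (F.inv_mem b1))
        rwa [inv_inv] at this
      refine ⟨?_, h2⟩
      rw [e3] at b1
      have := F.inv_mem (hmul' b1 (F.inv_mem h2))
      rwa [inv_inv] at this

/-- `V₁ ∩ V₂ = 1` -/
theorem pw_eq {a b : ZMod 4} (h : pw v₁ a = pw v₂ b) : a = 0 ∧ b = 0 := by
  have z1 := q.z1
  have z2 := q.rot.z1
  have n1 := q.cvw.hyp.zz_ne q.m1
  have n2 := q.cvw.hyp.zz_ne q.m2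
  have hne : zz K₁ ≠ zz K₂ := fun hh => q.n12 (q.inj q.m1 q.m2 hh)
  have hsq : pw v₁ (2 * a) = pw v₂ (2 * b) := by rw [← sq_pw q.o1, ← sq_pw q.o2, h]
  have h2 : ∀ a : ZMod 4, 2 * a = 0 ∨ 2 * a = 2 := by decide
  have h3 : ∀ a : ZMod 4, 2 * a = 0 → a = 0 ∨ a = 2 := by decide
  rcases h2 a with ha | ha
  · rcases h2 b with hb | hb
    · rcases h3 a ha with rfl | rfl
      · rcases h3 b hb with rfl | rfl
        · exact ⟨rfl, rfl⟩
        · rw [pw_zero, pw_two, z2] at h; exact (n2 h.symm).elim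
      · rcases h3 b hb with rfl | rfl
        · rw [pw_zero, pw_two, z1] at h; exact (n1 h).elim
        · rw [pw_two, pw_two, z1, z2] at h; exact (hne h).elim
    · rw [ha, hb, pw_zero, pw_two, z2] at hsq; exact (n2 hsq.symm).elim
  · rcases h2 b with hb | hb
    · rw [ha, hb, pw_zero, pw_two, z1] at hsq; exact (n1 hsq).elim
    · rw [ha, hb, pw_two, pw_two, z1, z2] at hsq; exact (hne hsq).elim

theorem sixteen (h1 : v₁ ∈ F) (h2 : v₂ ∈ F) : 16 ∣ Nat.card F := by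
  have h3 : 16 ∣ Nat.card (T ⊓ F : Subgroup G) := by
    obtain ⟨n, hn⟩ := IsPGroup.iff_card.1 q.sylR.2.1
    have h16 : 16 ≤ Nat.card (T ⊓ F : Subgroup G) := by
      let f : ZMod 4 × ZMod 4 → (T ⊓ F : Subgroup G) := fun p => ⟨pw v₁ p.1 * pw v₂ p.2,
        (T ⊓ F).mul_mem (pw_mem (mem_inf.2 ⟨q.t1, h1⟩) _) (pw_mem (mem_inf.2 ⟨q.t2, h2⟩) _)⟩
      have hf : Function.Injective f := by
        rintro ⟨a, b⟩ ⟨c, d⟩ hh
        have h4 : pw v₁ a * pw v₂ b = pw v₁ c * pw v₂ d := congrArg Subtype.val hh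
        have h5 : pw v₁ (-c + a) = pw v₂ (d + -b) := by
          rw [pw_add q.o1, pw_add q.o2, pw_neg q.o1, pw_neg q.o2, inv_mul_eq_iff_eq_mul, ← mul_assoc, ← h4,
            mul_inv_cancel_right]
        obtain ⟨h6, h7⟩ := q.pw_eq h5
        rw [neg_add_eq_zero] at h6
        rw [← sub_eq_add_neg, sub_eq_zero] at h7
        rw [h6, h7]
      have h4 := Nat.card_le_card_of_injective f hf
      have h5 : Nat.card (ZMod 4 × ZMod 4) = 16 := by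
        rw [Nat.card_prod, Nat.card_zmod]
      rwa [h5] at h4
    rw [hn] at h16 ⊢
    have h5 : 4 ≤ n := by
      by_contra hlt
      have h6 : (2 : ℕ) ^ n < 2 ^ 4 := Nat.pow_lt_pow_right (by norm_num) (by omega)
      norm_num at h6
      omega
    exact (pow_dvd_pow 2 h5 : (2 : ℕ) ^ 4 ∣ 2 ^ n)
  exact h3.trans (card_dvd_of_le inf_le_right)

end Tri

universe u

/-- the Sylow 2-subgroup `T ∩ F` of `F` -/
theorem Tri.exists_sylow {G : Type*} [Group G] [Finite G] {U : Subgroup G → Subgroup G}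
    {F K K₁ K₂ K₃ T : Subgroup G} {v₁ v₂ v₃ : G} (q : Tri K U F T K₁ K₂ K₃ v₁ v₂ v₃) :
    ∃ S : Sylow 2 F, (S : Subgroup F) = (T ⊓ F).subgroupOf F := by
  haveI : Fact (Nat.Prime 2) := ⟨Nat.prime_two⟩
  have hY := q.sylR
  have hYp : IsPGroup 2 ((T ⊓ F).subgroupOf F) := hY.2.1.comap_of_injective F.subtype F.subtype_injective
  exact ⟨hYp.toSylow hY.2.2, rfl⟩

section

variable {G : Type u} [Group G] [Finite G] {U : Subgroup G → Subgroup G} {F K K₁ K₂ K₃ L M N R T : Subgroup G}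
  {f g n r s t v v₁ v₂ v₃ w x y z : G}

namespace Tri

variable (q : Tri K U F T K₁ K₂ K₃ v₁ v₂ v₃)
include q

/-- **the abelian case** -/
theorem false_of_comm (h0506 : NoHomo.S0506Stmt.{u}) (hc : ∀ x ∈ T ⊓ F, ∀ y ∈ T ⊓ F, x * y = y * x) : False := by
  have hcen : ∀ r ∈ T ⊓ F, r * zz K₁ = zz K₁ * r ∧ r * zz K₂ = zz K₂ * r ∧ r * zz K₃ = zz K₃ * r := fun r hr =>
    ⟨hc r hr _ ⟨q.zT, q.zF q.m1⟩, hc r hr _ ⟨q.rot.zT, q.zF q.m2⟩, hc r hr _ ⟨q.rot.rot.zT, q.zF q.m3⟩⟩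
  obtain ⟨K₂', K₃', v₂', v₃', q', -, g, hg, -, -, g1, g2, g3⟩ := q.exists_rot hcen
  obtain ⟨h1, h2⟩ := q'.mem_F hg g1 g2 g3
  haveI := q.f.sim
  obtain ⟨S, hS⟩ := q.exists_sylow
  have hna : ¬ IsMulCommutative F := by
    intro h
    apply q.f.na
    intro x hx y hy
    exact congrArg Subtype.val (h.is_comm.comm (⟨x, hx⟩ : F) ⟨y, hy⟩)
  have hSc : IsMulCommutative (S : Subgroup F) := by
    refine ⟨⟨fun a b => ?_⟩⟩
    apply Subtype.ext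
    apply Subtype.ext
    have ha : (a : F) ∈ (T ⊓ F).subgroupOf F := by rw [← hS]; exact a.2
    have hb : (b : F) ∈ (T ⊓ F).subgroupOf F := by rw [← hS]; exact b.2
    exact hc _ (mem_subgroupOf.1 ha) _ (mem_subgroupOf.1 hb)
  refine NoHomo.false_of_simple h0506 hna S hSc (q'.sixteen h1 h2) (k := 2) (a := ⟨v₁, h1⟩) ?_ ?_
  · apply Subtype.ext
    change v₁ ^ 2 ^ 2 = 1
    rw [show 2 ^ 2 = 4 by norm_num, ← q.o1, pow_orderOf_eq_one]
  · intro hh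
    have h3 : v₁ * v₁ = 1 := congrArg Subtype.val hh
    rw [q.z1] at h3
    exact q.cvw.hyp.zz_ne q.m1 h3

/-- all involutions of `R` are `z₁`, `z₂`, `z₃` if `F` has one class of involutions -/
theorem inv3 {H : Subgroup F} (hH : IsStronglyEmbedded H) (ht : t ∈ T ⊓ F) (htt : t * t = 1) (ht1 : t ≠ 1) :
    t = zz K₁ ∨ t = zz K₂ ∨ t = zz K₃ := by
  have o2 : ∀ {x : F}, x * x = 1 → x ≠ 1 → orderOf x = 2 := fun h1 h2 => orderOf_eq_prime (by rw [pow_two, h1]) h2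
  have h1 := TwoFusion.StronglyEmbeddedBasic.isConj_of_involutions hH ⟨zz K₁, q.zF q.m1⟩ ⟨t, ht.2⟩
    (o2 (Subtype.ext (q.cvw.hyp.zz_mul q.m1)) (fun h => q.cvw.hyp.zz_ne q.m1 (congrArg Subtype.val h)))
    (o2 (Subtype.ext htt) (fun h => ht1 (congrArg Subtype.val h)))
  obtain ⟨c, hc⟩ := isConj_iff.1 h1
  have h2 : (c : G) * zz K₁ * (c : G)⁻¹ = t := congrArg Subtype.val hc
  have h3 := q.mem3 (Or.inl rfl) (show (c : G) * zz K₁ * (c : G)⁻¹ ∈ T by rw [h2]; exact ht.1)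
  have h4 : zz (Cit.cj (c : G) K₁) = t := by rw [q.cvw.hyp.zz_cj q.m1, h2]
  rcases h3 with h3 | h3 | h3
  · left; rw [← h4, h3]
  · right; left; rw [← h4, h3]
  · right; right; rw [← h4, h3]

/-- an element of `R` fixed by the rotation is trivial -/
theorem eq_one_of_fix {H : Subgroup F} (hH : IsStronglyEmbedded H) (g1 : Cit.cj g K₁ = K₂) (g2 : Cit.cj g K₂ = K₃)
    (g3 : Cit.cj g K₃ = K₁) (hr : r ∈ T ⊓ F) (hgr : g * r * g⁻¹ = r) : r = 1 := by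
  by_contra hr1
  obtain ⟨k, hk⟩ := q.sylR.2.1 ⟨r, hr⟩
  have hk' : r ^ 2 ^ k = 1 := congrArg Subtype.val hk
  -- the last nontrivial power
  have hex : ∃ j, r ^ 2 ^ j = 1 := ⟨k, hk'⟩
  classical
  obtain ⟨j, hj, hmin⟩ : ∃ j, r ^ 2 ^ j = 1 ∧ ∀ i < j, r ^ 2 ^ i ≠ 1 := ⟨Nat.find hex, Nat.find_spec hex,
    fun i hi => Nat.find_min hex hi⟩
  cases j with
  | zero => rw [pow_zero, pow_one] at hj; exact hr1 hj
  | succ j =>
    have h1 := hmin j (Nat.lt_succ_self j)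
    have h2 : r ^ 2 ^ j * r ^ 2 ^ j = 1 := by rw [← pow_add, ← two_mul, ← pow_succ', hj]
    have h3 : g * r ^ 2 ^ j * g⁻¹ = r ^ 2 ^ j := by rw [← conj_pow, hgr]
    have z1 := fun {M : Subgroup G} (hM : M ∈ cls K) => q.cvw.hyp.zz_cj hM g
    rcases q.inv3 hH ((T ⊓ F).pow_mem hr _) h2 h1 with h4 | h4 | h4
    · rw [h4, ← z1 q.m1, g1] at h3
      exact q.n12 (q.inj q.m1 q.m2 h3.symm)
    · rw [h4, ← z1 q.m2, g2] at h3
      exact q.n23 (q.inj q.m2 q.m3 h3.symm)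
    · rw [h4, ← z1 q.m3, g3] at h3
      exact q.n13 (q.inj q.m1 q.m3 h3)

/-- `R` centralises `v₁` -/
theorem comm_v {H : Subgroup F} (hH : IsStronglyEmbedded H)
    (hc : ∀ r ∈ T ⊓ F, r * zz K₁ = zz K₁ * r ∧ r * zz K₂ = zz K₂ * r ∧ r * zz K₃ = zz K₃ * r)
    (hgR : g ∈ normalizer (T ⊓ F : Subgroup G)) {b : ℕ} (hg3 : g ^ 3 ^ b = 1) (g1 : Cit.cj g K₁ = K₂)
    (g2 : Cit.cj g K₂ = K₃) (g3 : Cit.cj g K₃ = K₁) (hr : r ∈ T ⊓ F) : r * v₁ = v₁ * r := by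
  haveI : Fact (Nat.Prime 3) := ⟨Nat.prime_three⟩
  by_contra hne
  -- the action of `R` on the three roots
  have hor : ∀ {r}, r ∈ T ⊓ F → (r * v₁ * r⁻¹ = v₁ ∨ r * v₁ * r⁻¹ = v₁⁻¹) ∧ (r * v₂ * r⁻¹ = v₂ ∨ r * v₂ * r⁻¹ = v₂⁻¹) ∧
      (r * v₃ * r⁻¹ = v₃ ∨ r * v₃ * r⁻¹ = v₃⁻¹) := fun {r} hr =>
    ⟨q.cvw.conj_or q.m1 (q.norm_of q.m1 (hc r hr).1) q.u1 q.o1,
      q.cvw.conj_or q.m2 (q.norm_of q.m2 (hc r hr).2.1) q.u2 q.o2,
      q.cvw.conj_or q.m3 (q.norm_of q.m3 (hc r hr).2.2) q.u3 q.o3⟩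
  have hv1 : v₁ * v₁ ≠ 1 := by rw [q.z1]; exact q.cvw.hyp.zz_ne q.m1
  have hv3 : v₃ * v₃ ≠ 1 := by rw [q.rot.rot.z1]; exact q.cvw.hyp.zz_ne q.m3
  have unif : ∀ {r}, r ∈ T ⊓ F → r * v₁ * r⁻¹ = v₁⁻¹ → r * v₃ * r⁻¹ = v₃⁻¹ := by
    intro r hr h1
    refine (hor hr).2.2.resolve_left fun h3 => ?_
    have h4 : (r * v₁ * r⁻¹) * (r * v₂ * r⁻¹) * (r * v₃ * r⁻¹) = 1 := by
      calc (r * v₁ * r⁻¹) * (r * v₂ * r⁻¹) * (r * v₃ * r⁻¹) = r * (v₁ * v₂ * v₃) * r⁻¹ := by group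
        _ = 1 := by rw [q.prod]; group
    rw [h1, h3] at h4
    rcases (hor hr).2.1 with h2 | h2
    · rw [h2] at h4
      apply hv1
      have h5 := q.prod
      rw [mul_assoc] at h4 h5
      have h6 : v₁⁻¹ = v₁ := mul_right_cancel (h4.trans h5.symm)
      nth_rewrite 2 [← h6]
      exact mul_inv_cancel v₁
    · rw [h2, ← mul_inv_rev] at h4
      apply hv3
      have h6 : v₃ = v₂ * v₁ := eq_of_inv_mul_eq_one h4 |>.symm
      nth_rewrite 1 [h6]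
      rw [← q.c12]
      exact q.prod
  have gv : ∃ i : ZMod 4, (g⁻¹ * v₁ * g = pw v₃ i) ∧ (i = 1 ∨ i = -1) := by
    have h1 := q.cvw.vch.conj_mem q.m1 q.u1 g⁻¹
    have h2 : Cit.cj g⁻¹ K₁ = K₃ := by rw [← g3, cj_inv_cj]
    rw [h2, inv_inv] at h1
    have h3 := orderOf_conj_four q.o1 g⁻¹
    rw [inv_inv] at h3
    rcases q.cvw.eq_or_inv q.m3 q.u3 q.o3 h1 h3 with h4 | h4
    · exact ⟨1, by rw [h4, pw_one], Or.inl rfl⟩
    · exact ⟨-1, by rw [h4, pw_neg_one q.o3], Or.inr rfl⟩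
  obtain ⟨i, hi, hi1⟩ := gv
  -- the set
  let C : Set G := {r | r ∈ T ⊓ F ∧ r * v₁ * r⁻¹ = v₁⁻¹}
  have hCg : ∀ r ∈ C, g * r * g⁻¹ ∈ C := by
    rintro r ⟨hr, h1⟩
    refine ⟨(mem_normalizer_iff.1 hgR r).1 hr, ?_⟩
    have h2 : r * pw v₃ i * r⁻¹ = (pw v₃ i)⁻¹ := by
      rw [conj_pw, unif hr h1, pw_inv q.o3, pw_neg q.o3]
    calc g * r * g⁻¹ * v₁ * (g * r * g⁻¹)⁻¹ = g * (r * (g⁻¹ * v₁ * g) * r⁻¹) * g⁻¹ := by group
      _ = v₁⁻¹ := by rw [hi, h2, ← hi]; group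
  let φ : Function.End C := fun r => ⟨g * r * g⁻¹, hCg r r.2⟩
  have hφ : ∀ (n : ℕ) (r : C), (((φ ^ n) r : C) : G) = g ^ n * r * (g ^ n)⁻¹ := by
    intro n
    induction n with
    | zero =>
      intro r
      rw [pow_zero, pow_zero]
      change (r : G) = 1 * r * 1⁻¹
      simp
    | succ n ih =>
      intro r
      rw [pow_succ']
      change g * ((φ ^ n) r : C) * g⁻¹ = _
      rw [ih, pow_succ']
      group
  have hφ1 : φ ^ 3 ^ b = 1 := by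
    funext r
    apply Subtype.ext
    rw [hφ, hg3]
    change 1 * (r : G) * 1⁻¹ = r
    simp
  classical
  haveI : Fintype C := Fintype.ofFinite _
  have hmod := Equiv.Perm.card_fixedPoints_modEq (p := 3) (n := b) hφ1
  -- the cardinality of `C`
  have hrC : r ∈ C := by
    refine ⟨hr, (hor hr).1.resolve_left fun h1 => hne (mul_inv_eq_iff_eq_mul.1 h1)⟩
  obtain ⟨R0, hR0⟩ : ∃ R0, R0 = (T ⊓ F) ⊓ centralizer {v₁} := ⟨_, rfl⟩
  have hR0' : ∀ y, y ∈ R0 ↔ y ∈ T ⊓ F ∧ y * v₁ = v₁ * y := by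
    intro y
    rw [hR0, mem_inf (p := T ⊓ F), mem_centralizer_singleton_iff]
  have hR0C : Nat.card R0 = Nat.card C := by
    have hrr : r⁻¹ * v₁ * r = v₁⁻¹ := by
      have h1 := hrC.2
      have h2 : r⁻¹ * (r * v₁ * r⁻¹)⁻¹ * r = r⁻¹ * (v₁⁻¹)⁻¹ * r := by rw [h1]
      rw [inv_inv] at h2
      rw [← h2]
      group
    refine Nat.card_congr
      { toFun := fun x => ⟨x * r, ?_⟩
        invFun := fun c => ⟨c * r⁻¹, ?_⟩
        left_inv := ?_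
        right_inv := ?_ }
    · have hx := (hR0' _).1 x.2
      refine ⟨(T ⊓ F).mul_mem hx.1 hr, ?_⟩
      have h1 : (x : G) * v₁ = v₁ * x := hx.2
      have h2 : (x : G) * v₁⁻¹ = v₁⁻¹ * x := ((show Commute (x : G) v₁ from h1).inv_right).eq
      calc (x : G) * r * v₁ * ((x : G) * r)⁻¹ = x * (r * v₁ * r⁻¹) * (x : G)⁻¹ := by group
        _ = v₁⁻¹ := by rw [hrC.2, h2, mul_inv_cancel_right]
    · refine (hR0' _).2 ⟨(T ⊓ F).mul_mem c.2.1 ((T ⊓ F).inv_mem hr), ?_⟩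
      have h1 := c.2.2
      refine mul_inv_eq_iff_eq_mul.1 ?_
      have h2 : (c : G) * v₁⁻¹ * (c : G)⁻¹ = v₁ := by rw [← conj_inv, h1, inv_inv]
      calc (c : G) * r⁻¹ * v₁ * ((c : G) * r⁻¹)⁻¹ = c * (r⁻¹ * v₁ * r) * (c : G)⁻¹ := by group
        _ = v₁ := by rw [hrr, h2]
    · intro x
      apply Subtype.ext
      change (x : G) * r * r⁻¹ = x
      group
    · intro c
      apply Subtype.ext
      change (c : G) * r⁻¹ * r = c
      group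
  have hR2 : IsPGroup 2 R0 := q.sylR.2.1.to_le (by rw [hR0]; exact inf_le_left)
  obtain ⟨m, hm⟩ := IsPGroup.iff_card.1 hR2
  have hfix : Fintype.card φ.fixedPoints ≠ 0 := by
    intro h0
    rw [h0, ← Nat.card_eq_fintype_card, ← hR0C, hm] at hmod
    have h1 : 3 ∣ 2 ^ m := (Nat.modEq_zero_iff_dvd).1 hmod
    have h2 := (Nat.prime_three).dvd_of_dvd_pow h1
    omega
  obtain ⟨⟨r', hr'⟩⟩ := Fintype.card_pos_iff.1 (Nat.pos_of_ne_zero hfix)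
  have h1 : g * (r' : G) * g⁻¹ = r' := congrArg Subtype.val hr'
  have h2 := q.eq_one_of_fix hH g1 g2 g3 r'.2.1 h1
  have h3 := r'.2.2
  rw [h2, one_mul, inv_one, mul_one] at h3
  apply hv1
  nth_rewrite 2 [h3]
  exact mul_inv_cancel v₁

/-- the multiplication of the four-group -/
theorem four : zz K₁ * zz K₂ = zz K₃ ∧ zz K₂ * zz K₁ = zz K₃ ∧ zz K₁ * zz K₃ = zz K₂ ∧ zz K₃ * zz K₁ = zz K₂ ∧
    zz K₂ * zz K₃ = zz K₁ ∧ zz K₃ * zz K₂ = zz K₁ ∧ zz K₁ * zz K₁ = 1 ∧ zz K₂ * zz K₂ = 1 ∧ zz K₃ * zz K₃ = 1 := by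
  have h1 : Commute v₁ v₂ := q.c12
  have hc : zz K₁ * zz K₂ = zz K₂ * zz K₁ := by
    rw [← q.z1, ← q.rot.z1]
    exact ((h1.mul_left h1).mul_right (h1.mul_left h1)).eq
  have hz3 : zz K₁ * zz K₂ = zz K₃ := by
    rw [← q.rot.rot.z1, q.three_eq]
    have h2 : v₁⁻¹ * v₂⁻¹ * (v₁⁻¹ * v₂⁻¹) = (zz K₁)⁻¹ * (zz K₂)⁻¹ := by
      have h3 : v₂⁻¹ * v₁⁻¹ = v₁⁻¹ * v₂⁻¹ := (h1.inv_inv.symm).eq
      calc v₁⁻¹ * v₂⁻¹ * (v₁⁻¹ * v₂⁻¹) = v₁⁻¹ * (v₂⁻¹ * v₁⁻¹) * v₂⁻¹ := by group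
        _ = (v₁ * v₁)⁻¹ * (v₂ * v₂)⁻¹ := by rw [h3]; group
        _ = (zz K₁)⁻¹ * (zz K₂)⁻¹ := by rw [q.z1, q.rot.z1]
    rw [h2, q.cvw.hyp.zz_inv q.m1, q.cvw.hyp.zz_inv q.m2]
  have h11 := q.cvw.hyp.zz_mul q.m1
  have h22 := q.cvw.hyp.zz_mul q.m2
  have h33 := q.cvw.hyp.zz_mul q.m3
  refine ⟨hz3, by rw [← hc, hz3], ?_, ?_, ?_, ?_, h11, h22, h33⟩
  · rw [← hz3, ← mul_assoc, h11, one_mul]
  · rw [← hz3, hc, mul_assoc, h11, mul_one]
  · rw [← hz3, hc, ← mul_assoc, h22, one_mul]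
  · rw [← hz3, mul_assoc, h22, mul_one]

/-- **a strongly closed four-group is impossible** -/
theorem false_of (gold : Cit.ROne.Gold F) (hB : CloEnd.Bend F) (h0506 : NoHomo.S0506Stmt.{u}) : False := by
  obtain ⟨S, hS⟩ := q.exists_sylow
  have hmS : ∀ {x : F}, x ∈ (S : Subgroup F) ↔ (x : G) ∈ T ⊓ F := by
    intro x
    rw [hS, mem_subgroupOf]
  obtain ⟨m12, m21, m13, m31, m23, m32, m11, m22, m33⟩ := q.four
  let E : Subgroup F :=
    { carrier := {x | (x : G) = 1 ∨ (x : G) = zz K₁ ∨ (x : G) = zz K₂ ∨ (x : G) = zz K₃}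
      one_mem' := Or.inl rfl
      mul_mem' := by
        rintro x y hx hy
        change (x : G) * y = 1 ∨ (x : G) * y = zz K₁ ∨ (x : G) * y = zz K₂ ∨ (x : G) * y = zz K₃
        rcases hx with hx | hx | hx | hx <;> rcases hy with hy | hy | hy | hy <;> rw [hx, hy] <;>
          simp [m12, m21, m13, m31, m23, m32, m11, m22, m33]
      inv_mem' := by
        rintro x hx
        change (x : G)⁻¹ = 1 ∨ (x : G)⁻¹ = zz K₁ ∨ (x : G)⁻¹ = zz K₂ ∨ (x : G)⁻¹ = zz K₃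
        rcases hx with hx | hx | hx | hx <;> rw [hx]
        · left; exact inv_one
        · right; left; exact q.cvw.hyp.zz_inv q.m1
        · right; right; left; exact q.cvw.hyp.zz_inv q.m2
        · right; right; right; exact q.cvw.hyp.zz_inv q.m3 }
  have hmE : ∀ {x : F}, x ∈ E ↔ (x : G) = 1 ∨ (x : G) = zz K₁ ∨ (x : G) = zz K₂ ∨ (x : G) = zz K₃ := Iff.rfl
  have hE1 : E ≠ ⊥ := by
    intro hh
    have h1 : (⟨zz K₁, q.zF q.m1⟩ : F) ∈ E := Or.inr (Or.inl rfl)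
    rw [hh, Subgroup.mem_bot] at h1
    exact q.cvw.hyp.zz_ne q.m1 (congrArg Subtype.val h1)
  have hEc : IsMulCommutative E := by
    refine ⟨⟨fun a b => ?_⟩⟩
    apply Subtype.ext
    apply Subtype.ext
    change ((a : F) : G) * ((b : F) : G) = ((b : F) : G) * ((a : F) : G)
    rcases hmE.1 a.2 with ha | ha | ha | ha <;> rcases hmE.1 b.2 with hb | hb | hb | hb <;> rw [ha, hb] <;>
      simp [m12, m21, m13, m31, m23, m32]
  have hzT : zz K₁ ∈ T ∧ zz K₂ ∈ T ∧ zz K₃ ∈ T := ⟨q.zT, q.rot.zT, q.rot.rot.zT⟩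
  have hEsc : IsStronglyClosed E (S : Subgroup F) := by
    constructor
    · intro x hx
      rw [hmS]
      refine ⟨?_, x.2⟩
      rcases hmE.1 hx with hx | hx | hx | hx <;> rw [SetLike.mem_coe, hx]
      · exact one_mem _
      · exact hzT.1
      · exact hzT.2.1
      · exact hzT.2.2
    · intro x hx g hg
      have h1 : (g : G) * x * (g : G)⁻¹ ∈ T := (hmS.1 hg).1
      have key : ∀ {M : Subgroup G}, M ∈ cls K → (x : G) = zz M →
          (M = K₁ ∨ M = K₂ ∨ M = K₃) → g * x * g⁻¹ ∈ E := by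
        intro M hM hxM hM3
        rw [hxM] at h1
        have h2 := q.mem3 hM3 h1
        have h3 : ((g * x * g⁻¹ : F) : G) = zz (Cit.cj (g : G) M) := by
          rw [q.cvw.hyp.zz_cj hM, ← hxM]; rfl
        rw [hmE, h3]
        rcases h2 with h2 | h2 | h2 <;> rw [h2]
        · right; left; rfl
        · right; right; left; rfl
        · right; right; right; rfl
      rcases hmE.1 hx with hx | hx | hx | hx
      · have h2 : x = 1 := Subtype.ext hx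
        rw [h2, mul_one, mul_inv_cancel]
        exact one_mem _
      · exact key q.m1 hx (Or.inl rfl)
      · exact key q.m2 hx (Or.inr (Or.inl rfl))
      · exact key q.m3 hx (Or.inr (Or.inr rfl))
  rcases gold S E hE1 hEc hEsc with h1 | ⟨H, hH⟩
  · refine q.false_of_comm h0506 fun x hx y hy => ?_
    exact congrArg (fun t : (S : Subgroup F) => ((t : F) : G))
      (h1.is_comm.comm ⟨⟨x, hx.2⟩, hmS.2 hx⟩ ⟨⟨y, hy.2⟩, hmS.2 hy⟩)
  · have hC := hB H hH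
    have hcen : ∀ {x t}, x ∈ T ⊓ F → t ∈ T ⊓ F → t * t = 1 → x * t = t * x := by
      intro x t hx ht htt
      exact (congrArg Subtype.val (CloBen.cen_of_concl hC S (x := ⟨t, ht.2⟩) (y := ⟨x, hx.2⟩) (hmS.2 ht) (hmS.2 hx)
        (Subtype.ext htt))).symm
    have hcz : ∀ r ∈ T ⊓ F, r * zz K₁ = zz K₁ * r ∧ r * zz K₂ = zz K₂ * r ∧ r * zz K₃ = zz K₃ * r := fun r hr =>
      ⟨hcen hr ⟨hzT.1, q.zF q.m1⟩ m11, hcen hr ⟨hzT.2.1, q.zF q.m2⟩ m22, hcen hr ⟨hzT.2.2, q.zF q.m3⟩ m33⟩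
    obtain ⟨K₂', K₃', v₂', v₃', q', hc', g, hg, hgR, ⟨b, hg3⟩, g1, g2, g3⟩ := q.exists_rot hcz
    obtain ⟨h1, h2⟩ := q'.mem_F hg g1 g2 g3
    refine q.false_of_comm h0506 fun x hx y hy => ?_
    have hcv := fun {r} (hr : r ∈ T ⊓ F) => q'.comm_v hH hc' hgR hg3 g1 g2 g3 hr
    have hv1 : v₁ * v₁ ≠ 1 := by rw [q.z1]; exact q.cvw.hyp.zz_ne q.m1
    exact congrArg Subtype.val (CloBen.comm_of_concl hC S.isPGroup' (x := ⟨v₁, h1⟩) (y := ⟨x, hx.2⟩) (z := ⟨y, hy.2⟩)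
      (hmS.2 ⟨q.t1, h1⟩) (hmS.2 hx) (hmS.2 hy) (fun h => hv1 (congrArg Subtype.val h)) (Subtype.ext (hcv hx).symm)
      (Subtype.ext (hcv hy).symm))

end Tri

end

end Cfsg.Agent.Cit.Nil.CVT
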