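import Cfsg.Agent.Cit.Nil.CVT.ExOne
import Cfsg.Agent.Cit.Nil.CVT.Tri
import Cfsg.Agent.Cit.Nil.CVT.IndOf

/-!
# (6b)(CV), the frame: (ex) for linked roots, `ExStmt`

* `TW.cen`, `TW.quot_two` : `O_2(X)` is central, `X / O_2(X)`;
* `comm_lift` : members commuting modulo a central kernel commute (no orthogonal members);
* `syl_inf` : `P ∩ X` is a Sylow 2-subgroup of `X`;
* `ex_two` : (ex) for linked roots;
* `exStmt`.
-/

set_option autoImplicit false
set_option linter.style.haveILetI false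
set_option linter.unusedSectionVars false

namespace Cfsg.Agent.Cit.Nil.CVT

open Subgroup Cfsg Cit Tau CV CV1 Cfsg.Agent.Cit.Comp
open Cfsg.Agent.Cit.Nil.ROne (FSimp)

universe u

/-! ### Quotients -/

section quot

variable {G : Type*} [Group G] [Finite G] {Om : Set (Subgroup G)} {U : Subgroup G → Subgroup G} {K L M N X : Subgroup G}

theorem TW.cen (h : TW K U) (hz : zz K ∉ pCore 2 G) : pCore 2 G ≤ center G := by
  have hPn : (pCore 2 G).Normal := Lib.Cores.pCore_normal 2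
  have h1 : K ≤ centralizer (pCore 2 G : Set G) := by
    intro k hk
    rw [mem_centralizer_iff]
    intro n hn
    exact (h.cvw.hyp.lemma_one (self_mem_cls K) (h.cvw.two K (self_mem_cls K)) (Lib.Cores.pCore_isPGroup 2)
      (by rw [normalizer_eq_top_iff.2 hPn]; exact le_top) hz k hk n hn).symm
  have h2 : centralizer (pCore 2 G : Set G) = ⊤ := by
    rw [eq_top_iff, ← h.gen]
    exact normalClosure_le_normal h1
  intro x hx
  rw [mem_center_iff]
  intro g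
  have h3 : g ∈ centralizer (pCore 2 G : Set G) := by rw [h2]; exact mem_top g
  exact (mem_centralizer_iff.1 h3 x hx).symm

theorem pCore_quot : pCore 2 (G ⧸ pCore 2 G) = ⊥ := by
  haveI : Fact (Nat.Prime 2) := ⟨Nat.prime_two⟩
  haveI hPn : (pCore 2 G).Normal := Lib.Cores.pCore_normal 2
  have h5 : (pCore 2 (G ⧸ pCore 2 G)).comap (QuotientGroup.mk' (pCore 2 G)) ≤ pCore 2 G := by
    refine Lib.Cores.le_pCore ((Lib.Cores.pCore_normal 2).comap _) ?_
    refine (Lib.Cores.pCore_isPGroup 2).comap_of_ker_isPGroup _ ?_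
    rw [QuotientGroup.ker_mk']
    exact Lib.Cores.pCore_isPGroup 2
  rw [eq_bot_iff]
  intro y hy
  obtain ⟨x, rfl⟩ := QuotientGroup.mk'_surjective _ y
  have h6 := h5 (mem_comap.2 hy)
  rw [mem_bot]
  exact (QuotientGroup.eq_one_iff x).2 h6

variable {G' : Type*} [Group G'] {f : G →* G'}

/-- members commuting modulo a central kernel commute -/
theorem comm_lift (w : CVW Om U) (hC : f.ker ≤ center G) (hKC : ∀ K ∈ Om, K ⊓ f.ker = ⊥)
    (hno : ∀ M ∈ Om, ∀ N ∈ Om, ¬ Orth M N) (hK : K ∈ Om) (hL : L ∈ Om)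
    (hc : ∀ x ∈ K.map f, ∀ y ∈ L.map f, x * y = y * x) : ∀ x ∈ K, ∀ y ∈ L, x * y = y * x := by
  have hker : ∀ {x y}, x ∈ K → y ∈ L → x * y * x⁻¹ * y⁻¹ ∈ f.ker := by
    intro x y hx hy
    have h1 := hc (f x) ⟨x, hx, rfl⟩ (f y) ⟨y, hy, rfl⟩
    rw [MonoidHom.mem_ker, map_mul, map_mul, map_mul, map_inv, map_inv, h1]
    group
  by_contra hcon
  have hKC' : ¬ K ≤ centralizer (L : Set G) := by
    intro h1
    apply hcon
    intro x hx y hy
    exact (mem_centralizer_iff.1 (h1 hx) y hy).symm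
  obtain ⟨k, hk, hkC, hkk⟩ := exists_sq_not_mem w hK hKC'
  apply hkC
  have hk4 : orderOf k = 4 := GQ.orderOf_of_sq hkk (w.hyp.zz_mul hK) (w.hyp.zz_ne hK)
  have h1 : k * zz L = zz L * k := by
    refine QuoCen.comm_of_central w.hyp hK hL hC (hKC K hK) hk ?_ (by rw [hk4]) (hker hk (w.hyp.zz_mem hL))
    exact CVW.two_zpowers hk4
  have h2 : Cit.cj k L = L := by
    by_contra hne
    have h3 : zz (Cit.cj k L) = zz L := by rw [w.hyp.zz_cj hL, h1, mul_inv_cancel_right]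
    exact hno _ (w.hyp.conj L hL k) _ hL ⟨hne, fun x hx y hy => w.comm_of_zz_eq (w.hyp.conj L hL k) hL h3 hne hx hy⟩
  rw [mem_centralizer_iff]
  intro y hy
  have h3 : k * y * k⁻¹ * y⁻¹ ∈ L ⊓ f.ker := by
    refine ⟨L.mul_mem ?_ (L.inv_mem hy), hker hk hy⟩
    exact (mem_normalizer_iff.1 (mem_normalizer_iff_cj.2 h2) y).1 hy
  rw [hKC L hL, mem_bot, mul_inv_eq_one, mul_inv_eq_iff_eq_mul] at h3
  exact h3.symm

/-- Sylow 2-subgroups of normal subgroups -/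
theorem syl_inf {P Y : Subgroup G} (hP : Syl P Y) (hXY : X ≤ Y) (hYX : Y ≤ normalizer (X : Set G)) :
    Syl (P ⊓ X) X := by
  obtain ⟨Q, hQ, hPQ⟩ := exists_syl_ge (hP.2.1.to_le inf_le_left) (inf_le_right : P ⊓ X ≤ X)
  obtain ⟨R, hR, hQR⟩ := exists_syl_ge hQ.2.1 (hQ.1.trans hXY)
  obtain ⟨g, hg, hgR⟩ := hP.exists_conj hR
  have h1 : Q ≤ Cit.cj g (P ⊓ X) := by
    rw [cj_inf, hgR, mem_normalizer_iff_cj.1 (hYX hg)]
    exact le_inf hQR hQ.1
  have h2 : Nat.card (Cit.cj g (P ⊓ X)) = Nat.card (P ⊓ X : Subgroup G) :=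
    card_map_of_injective (MulAut.conj g).injective
  have h3 : P ⊓ X = Q := by
    refine Subgroup.eq_of_le_of_card_ge hPQ ?_
    rw [← h2]
    exact Nat.le_of_dvd Nat.card_pos (card_dvd_of_le h1)
  rw [h3]
  exact hQ

end quot

/-! ### The world `X` -/

/-- the form of S1169 for simple groups -/
def GoldStmt : Prop := ∀ (X : Type u) [Group X] [Finite X] [IsSimpleGroup X], Cit.ROne.Gold X

/-- Bender's theorem for simple groups -/
def BendStmt : Prop := ∀ (X : Type u) [Group X] [Finite X] [IsSimpleGroup X], CloEnd.Bend X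

section world

variable {Y : Type u} [Group Y] [Finite Y] {K K₁ K₂ K₃ : Subgroup Y} {U : Subgroup Y → Subgroup Y} {v₁ v₂ v₃ : Y}

theorem false_of_three (h : TW K U) (hz : zz K ∉ pCore 2 Y) (hno : ∀ M ∈ cls K, ∀ N ∈ cls K, ¬ Orth M N)
    (hev : EvQ (Y ⧸ pCore 2 Y)) (gold : GoldStmt.{u}) (bend : BendStmt.{u}) (h0506 : NoHomo.S0506Stmt.{u})
    (S : Sylow 2 Y) (m1 : K₁ ∈ cls K) (m2 : K₂ ∈ cls K) (m3 : K₃ ∈ cls K) (u1 : v₁ ∈ U K₁) (u2 : v₂ ∈ U K₂)
    (u3 : v₃ ∈ U K₃) (o1 : orderOf v₁ = 4) (o2 : orderOf v₂ = 4) (o3 : orderOf v₃ = 4) (t1 : v₁ ∈ S) (t2 : v₂ ∈ S)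
    (t3 : v₃ ∈ S) (n12 : K₁ ≠ K₂) (n13 : K₁ ≠ K₃) (n23 : K₂ ≠ K₃) (c12 : v₁ * v₂ = v₂ * v₁) (prod : v₁ * v₂ * v₃ = 1)
    (all : ∀ N ∈ cls K, zz N ∈ S → N = K₁ ∨ N = K₂ ∨ N = K₃) : False := by
  haveI : Fact (Nat.Prime 2) := ⟨Nat.prime_two⟩
  haveI hPn : (pCore 2 Y).Normal := Lib.Cores.pCore_normal 2
  have hcen := h.cen hz
  obtain ⟨f, hfd⟩ : ∃ f : Y →* Y ⧸ pCore 2 Y, f = QuotientGroup.mk' (pCore 2 Y) := ⟨_, rfl⟩
  have hf : Function.Surjective f := by rw [hfd]; exact QuotientGroup.mk'_surjective _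
  have hker : f.ker = pCore 2 Y := by rw [hfd]; exact QuotientGroup.ker_mk' _
  have hC : f.ker ≤ center Y := by rw [hker]; exact hcen
  have hw := h.quot hf hC (by rw [hker]; exact Lib.Cores.pCore_isPGroup 2) (by rw [hker]; exact hz)
  have hKC : ∀ L ∈ cls K, L ⊓ f.ker = ⊥ := by
    rintro _ ⟨g, rfl⟩
    refine CVW.inf_eq_bot h.cvw ⟨g, rfl⟩ fun h1 => hz ?_
    rw [h.cvw.hyp.zz_cj (self_mem_cls K)] at h1
    have h3 := (f.normal_ker).conj_mem _ h1 g⁻¹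
    have h4 : g⁻¹ * (g * zz K * g⁻¹) * g⁻¹⁻¹ = zz K := by group
    rwa [h4, hker] at h3
  have hQ2 : pCore 2 (Y ⧸ pCore 2 Y) = ⊥ := pCore_quot
  obtain ⟨F, hF, hF2⟩ := exists_fsimp hw.odd hQ2 hev hw.cvw hw.gen
  have himg := img_cls hf K
  have hmem : ∀ {N}, N ∈ cls K → N.map f ∈ cls (K.map f) := by
    intro N hN
    rw [← himg]
    exact ⟨N, hN, rfl⟩
  have hmem' : ∀ {M}, M ∈ cls (K.map f) → ∃ N ∈ cls K, N.map f = M := by
    intro M hM
    rw [← himg] at hM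
    exact hM
  have heq := fun {M N : Subgroup Y} (hM : M ∈ cls K) (hN : N ∈ cls K) =>
    CVW.eq_of_map_eq h.cvw hC hKC hM hN
  have hU : ∀ {N}, N ∈ cls K → imgU f (cls K) U (N.map f) = (U N).map f := fun {N} hN =>
    imgU_map (fun M hM N hN hMN => by rw [heq hM hN hMN]) hN
  have hord : ∀ {N v}, N ∈ cls K → v ∈ U N → orderOf v = 4 → orderOf (f v) = 4 := by
    intro N v hN hv hv4
    rw [QuoCen.orderOf_map (hKC N hN) (h.cvw.vch.le N hN hv), hv4]
  have hkS : f.ker ≤ S := by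
    rw [hker]
    exact Lib.Cores.pCore_le_sylow S
  let T : Sylow 2 (Y ⧸ pCore 2 Y) := S.mapSurjective hf
  have hT : (T : Subgroup (Y ⧸ pCore 2 Y)) = (S : Subgroup Y).map f := rfl
  haveI := hF.sim
  have q : Tri (K.map f) (imgU f (cls K) U) F T (K₁.map f) (K₂.map f) (K₃.map f) (f v₁) (f v₂) (f v₃) :=
    { cvw := hw.cvw
      no := by
        intro M hM N hN hMN
        obtain ⟨M, hM', rfl⟩ := hmem' hM
        obtain ⟨N, hN', rfl⟩ := hmem' hN
        exact hno M hM' N hN' ⟨fun hh => hMN.1 (by rw [hh]), comm_lift h.cvw hC hKC hno hM' hN' hMN.2⟩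
      f := hF
      even := hF2
      syl := by
        refine ⟨le_top, T.isPGroup', ?_⟩
        rw [relIndex_top_right]
        exact T.not_dvd_index
      m1 := hmem m1
      m2 := hmem m2
      m3 := hmem m3
      u1 := by rw [hU m1]; exact ⟨_, u1, rfl⟩
      u2 := by rw [hU m2]; exact ⟨_, u2, rfl⟩
      u3 := by rw [hU m3]; exact ⟨_, u3, rfl⟩
      o1 := hord m1 u1 o1
      o2 := hord m2 u2 o2
      o3 := hord m3 u3 o3
      t1 := ⟨_, t1, rfl⟩
      t2 := ⟨_, t2, rfl⟩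
      t3 := ⟨_, t3, rfl⟩
      n12 := fun hh => n12 (heq m1 m2 hh)
      n13 := fun hh => n13 (heq m1 m3 hh)
      n23 := fun hh => n23 (heq m2 m3 hh)
      c12 := by rw [← map_mul, c12, map_mul]
      prod := by rw [← map_mul, ← map_mul, prod, map_one]
      all := by
        intro M hM hMz
        obtain ⟨N, hN, rfl⟩ := hmem' hM
        rw [QuoCen.zz_map_of_inf h.cvw.hyp hN (hKC N hN)] at hMz
        obtain ⟨s, hs, hsz⟩ := hMz
        have h1 : s⁻¹ * zz N ∈ f.ker := by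
          rw [MonoidHom.mem_ker, map_mul, map_inv, hsz, inv_mul_cancel]
        have h2 : zz N ∈ (S : Subgroup Y) := by
          have h3 := (S : Subgroup Y).mul_mem hs (hkS h1)
          rwa [mul_inv_cancel_left] at h3
        rcases all N hN h2 with h3 | h3 | h3
        · left; rw [h3]
        · right; left; rw [h3]
        · right; right; rw [h3] }
  exact q.false_of (gold F) (bend F) h0506

end world

section main

variable {G : Type u} [Group G] [Finite G] {Om : Set (Subgroup G)} {U : Subgroup G → Subgroup G}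
  {A K L M N X : Subgroup G} {e g u v v₁ v₂ v₃ w x y : G}

/-- `YY` normalises `X` -/
theorem YY_le_normalizer (s : SNC (centralizer {e}) K X) : YY e (BL K X) ≤ normalizer (X : Set G) := by
  intro y hy
  have h1 : Cit.cj y K ∈ BL K X := (hy.2 K).2 self_mem_BL
  have h2 := s.cj_of_norm (le_normalizer (mem_centralizer_singleton_iff.2 hy.1))
  exact mem_normalizer_iff_cj.2 (h2.unique (s.of_BL h1))

theorem X_le_YY (s : SNC (centralizer {e}) K X) : X ≤ YY e (BL K X) := by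
  intro x hx
  refine ⟨mem_centralizer_singleton_iff.1 (s.XH hx), fun N => ⟨?_, ?_⟩⟩
  · rintro ⟨g, hg, hgN⟩
    refine ⟨x⁻¹ * g, X.mul_mem (X.inv_mem hx) hg, ?_⟩
    rw [cj_mul, ← hgN, cj_inv_cj]
  · rintro ⟨g, hg, rfl⟩
    exact ⟨x * g, X.mul_mem hx hg, by rw [cj_mul]⟩

/-- **(ex), linked roots** -/
theorem ex_two (b : PreBlk Om e (BL K X)) (w : CVW Om U) (s : SNC (centralizer {e}) K X) (hK : K ∈ Om)
    (hO : pPrimeCore 2 X = ⊥) (hz : zz K ∉ (pCore 2 X).map X.subtype) (hev : ∀ (G : Type u) [Group G] [Finite G], EvQ G)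
    (gold : GoldStmt.{u}) (bend : BendStmt.{u}) (h0506 : NoHomo.S0506Stmt.{u}) (hA : IsA Om U A) (he : e ∈ A)
    (q : ATwo Om U A (BL K X) v₁ v₂ v₃) : ∃ N ∈ BL K X, zz N ∈ normalizer (A : Set G) ∧ zz N ∉ A := by
  haveI : Fact (Nat.Prime 2) := ⟨Nat.prime_two⟩
  by_contra hno
  push Not at hno
  obtain ⟨hv1, K₁, hK1, hvK1⟩ := id q.m1
  obtain ⟨hv2, K₂, hK2, hvK2⟩ := id q.m2
  obtain ⟨hv3, K₃, hK3, hvK3⟩ := id q.m3
  have hO1 := (b.sub K₁ hK1).1
  have hO2 := (b.sub K₂ hK2).1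
  have hO3 := (b.sub K₃ hK3).1
  have hX : ∀ {N}, N ∈ BL K X → N ≤ X := fun hN => BL_le s.KX hN
  have hx1 : v₁ ∈ X := hX hK1 (w.vch.le _ hO1 hvK1)
  have hx2 : v₂ ∈ X := hX hK2 (w.vch.le _ hO2 hvK2)
  have hx3 : v₃ ∈ X := hX hK3 (w.vch.le _ hO3 hvK3)
  obtain ⟨P, hP, hAP⟩ := exists_syl_ge (CVW.isA_two hA) (b.A_le_YY w hA he hK1 hvK1 hv1.2.1 hv1.1)
  have hPn := w.le_norm hA hP.2.1 hAP
  have hY := syl_inf hP (X_le_YY s) (YY_le_normalizer s)
  have hYp : IsPGroup 2 ((P ⊓ X).subgroupOf X) := hY.2.1.comap_of_injective X.subtype X.subtype_injective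
  obtain ⟨S, hS⟩ : ∃ S : Sylow 2 X, (S : Subgroup X) = (P ⊓ X).subgroupOf X := ⟨hYp.toSylow hY.2.2, rfl⟩
  have hmS : ∀ {x : X}, x ∈ (S : Subgroup X) ↔ (x : G) ∈ P := by
    intro x
    rw [hS, mem_subgroupOf]
    exact ⟨fun h => h.1, fun h => ⟨h, x.2⟩⟩
  have hmap : ∀ {N}, N ∈ BL K X → (N.subgroupOf X).map X.subtype = N := fun hN => map_subgroupOf_eq_of_le (hX hN)
  have hcl : ∀ {N : Subgroup X}, N ∈ Cit.cls (K.subgroupOf X) → N.map X.subtype ∈ BL K X := by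
    intro N hN
    obtain ⟨g, hg, h1⟩ := map_cls_subgroupOf s.KX hN
    exact ⟨g, hg, h1⟩
  have hsub : ∀ {N : Subgroup X}, (N.map X.subtype).subgroupOf X = N := by
    intro N
    rw [subgroupOf, comap_map_eq_self_of_injective X.subtype_injective]
  have hne : ∀ {M N}, M ∈ BL K X → N ∈ BL K X → M ≠ N → M.subgroupOf X ≠ N.subgroupOf X := by
    intro M N hM hN h1 h2
    apply h1
    rw [← hmap hM, h2, hmap hN]
  have hn : ∀ {v w' M N}, al Om U v w' = -1 → v ∈ RR Om U A → v ∈ U M → M ∈ Om → w' ∈ U N → w' ∈ RR Om U A → M ≠ N := by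
    intro v w' M N hal hv hvM hM hwN hw' hMN
    rw [← hMN] at hwN
    rcases w.eq_or_inv hM hvM hv.2.1 hwN hw'.2.1 with h1 | h1
    · rw [h1, w.al_self hA hv] at hal; exact absurd hal (by decide)
    · rw [h1, w.al_inv hA hv hv.1, w.al_self hA hv] at hal; exact absurd hal (by decide)
  have htw : TW (K.subgroupOf X) (uH X U) := ⟨CVW.cls_restr w hK s.KX, s.gen, hO⟩
  refine false_of_three (K := K.subgroupOf X) (U := uH X U) (K₁ := K₁.subgroupOf X) (K₂ := K₂.subgroupOf X)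
    (K₃ := K₃.subgroupOf X) (v₁ := ⟨v₁, hx1⟩) (v₂ := ⟨v₂, hx2⟩) (v₃ := ⟨v₃, hx3⟩) htw ?_ ?_ (hev _) gold bend h0506 S
    (subgroupOf_mem_cls s.KX hK1) (subgroupOf_mem_cls s.KX hK2) (subgroupOf_mem_cls s.KX hK3)
    ?_ ?_ ?_ ?_ ?_ ?_ ?_ ?_ ?_ ?_ ?_ ?_ ?_ ?_ ?_
  · intro h1
    apply hz
    exact ⟨_, h1, coe_zz w hK s.KX⟩
  · intro M hM N hN hMN
    apply hMN.1
    have h1 := b.one _ (hcl hM) _ (hcl hN) (by
      rintro _ ⟨x, hx, rfl⟩ _ ⟨y, hy, rfl⟩
      exact congrArg Subtype.val (hMN.2 x hx y hy))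
    rw [← hsub (N := M), h1, hsub]
  · rw [mem_uH, hmap hK1]; exact hvK1
  · rw [mem_uH, hmap hK2]; exact hvK2
  · rw [mem_uH, hmap hK3]; exact hvK3
  · rw [Subgroup.orderOf_mk]; exact hv1.2.1
  · rw [Subgroup.orderOf_mk]; exact hv2.2.1
  · rw [Subgroup.orderOf_mk]; exact hv3.2.1
  · exact hmS.2 (hAP hv1.1)
  · exact hmS.2 (hAP hv2.1)
  · exact hmS.2 (hAP hv3.1)
  · exact hne hK1 hK2 (hn q.a12 hv1 hvK1 hO1 hvK2 hv2)
  · exact hne hK1 hK3 (hn q.a13 hv1 hvK1 hO1 hvK3 hv3)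
  · exact hne hK2 hK3 (hn q.a23 hv2 hvK2 hO2 hvK3 hv3)
  · exact Subtype.ext (w.comm hA hv1.1 hv2.1)
  · exact Subtype.ext q.prod
  · intro N hN hNS
    have hNB := hcl hN
    have hNO := (b.sub _ hNB).1
    have h1 : ((zz N : X) : G) = zz (N.map X.subtype) := by
      have h2 := coe_zz w hNO (hX hNB)
      rwa [hsub] at h2
    have h2 : zz (N.map X.subtype) ∈ A := hno _ hNB (hPn (by rw [← h1]; exact hmS.1 hNS))
    obtain ⟨u, hu, hu4⟩ := w.exists_v hNO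
    have h3 := b.mem_A_of_zz w hA he hK1 hvK1 hv1.2.1 hv1.1 hNB h2 hu hu4
    have key : ∀ {v M}, v ∈ U M → M ∈ Om → orderOf v = 4 → (u = v ∨ u = v⁻¹) → N = M.subgroupOf X := by
      intro v M hv hM hv4 h5
      have h6 : N.map X.subtype = M := by
        rcases h5 with h5 | h5
        · exact w.eq_of_mem hNO hM hu (by rw [h5]; exact hv) hu4
        · exact w.eq_of_mem hNO hM hu (by rw [h5]; exact (U M).inv_mem hv) hu4
      rw [← h6, hsub]
    rcases q.cls w hA b h3 with h4 | h4 | h4 | h4 | h4 | h4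
    · exact Or.inl (key hvK1 hO1 hv1.2.1 (Or.inl h4))
    · exact Or.inl (key hvK1 hO1 hv1.2.1 (Or.inr h4))
    · exact Or.inr (Or.inl (key hvK2 hO2 hv2.2.1 (Or.inl h4)))
    · exact Or.inr (Or.inl (key hvK2 hO2 hv2.2.1 (Or.inr h4)))
    · exact Or.inr (Or.inr (key hvK3 hO3 hv3.2.1 (Or.inl h4)))
    · exact Or.inr (Or.inr (key hvK3 hO3 hv3.2.1 (Or.inr h4)))

end main

/-- **(ex)** -/
theorem exStmt (hev : ∀ (G : Type u) [Group G] [Finite G], EvQ G) (gold : GoldStmt.{u}) (bend : BendStmt.{u})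
    (h0506 : NoHomo.S0506Stmt.{u}) : ExStmt.{u} := by
  intro G _ _ Om U K X A e v w hK s hO hz hone hA he hvK hv
  have b : PreBlk Om e (BL K X) := by
    refine ⟨fun L hL => ⟨BL_mem w hK hL, (BL_le s.KX hL).trans s.XH⟩, ?_, ?_, ?_⟩
    · intro L hL g hg hgL N hN
      exact s.cj_BL (le_normalizer (mem_centralizer_singleton_iff.2 hg)) hL hgL hN
    · rintro L hL M hM hMe ⟨y, hy, x, hx, hxM⟩
      exact s.lk_BL hL hMe hy hx hxM
    · intro L hL M hM hc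
      by_contra hne
      exact hone L hL M hM ⟨hne, hc⟩
  by_cases hall : ∀ u ∈ RB Om U A (BL K X), ¬ Lk Om U v u
  · exact ex_one b w s.KX hO hz hA he self_mem_BL hvK hv.2.1 hv.1 hall
  · push Not at hall
    obtain ⟨u, hu, hl⟩ := hall
    obtain ⟨v₂, v₃, q⟩ := b.exists_ATwo w hA ⟨hv, K, self_mem_BL, hvK⟩ hu hl
    exact ex_two b w s hK hO hz hev gold bend h0506 hA he q

end Cfsg.Agent.Cit.Nil.CVT
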