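import Cfsg.Agent.Cit.Nil.CVT.Red
import Cfsg.Agent.Cit.Nil.CV.Rank3

/-!
# (6b)(CV), the simple case: rank at least three

`SC.false_of_rkThree` : in the simple case there is no component of rank at least three, given the output `IndCV` of the induction.
`SC.trich` : rank one, `A2`, rank at least three.
-/

set_option autoImplicit false
set_option linter.style.haveILetI false
set_option linter.unusedSectionVars false

namespace Cfsg.Agent.Cit.Nil.CVT

open Subgroup Cfsg Cit Tau CV CV1

universe u

variable {G : Type u} [Group G] [Finite G] {K F : Subgroup G} {U : Subgroup G → Subgroup G}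

theorem SC.trich (s : SC K U F) : (∀ A, IsA (cls K) U A → RkOne (cls K) U A) ∨
    (∀ A, IsA (cls K) U A → RkTwo (cls K) U A) ∨ ∀ A, IsA (cls K) U A → RkThree (cls K) U A :=
  s.cvw.trich cls_conj ⟨K, self_mem_cls K⟩

theorem SC.false_of_rkThree (s : SC K U F) (hi : IndCV (cls K) U)
    (hr : ∀ A, IsA (cls K) U A → RkThree (cls K) U A) (hc : CloEnd.Crit1174 F) (hB : CloEnd.Bend F) : False :=
  CV.false_of_rankThree s.cvw cls_conj ⟨K, self_mem_cls K⟩ hi hr s.f s.even hc hB

end Cfsg.Agent.Cit.Nil.CVT
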