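import Cfsg.Agent.Cit.Nil.CVT.Inherit
import Cfsg.Agent.Cit.Nil.CV1.TFree
import Cfsg.Agent.Cit.Nil.ROne.GraphB

/-!
# (6b)(CV), the frame: the members normalise the components

`O(G) = O_2(G) = 1`.

* `exists_comp` : some component is not centralised by `zz K`;
* `exists_conj` : Glauberman's theorem in `E⟨zz K⟩`;
* `norm_comp` : `K` normalises every component;
* `exists_fsimp` : if `K` is not contained in a proper normal subgroup, then `G` has a simple normal subgroup with trivial
  centraliser.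
-/

set_option autoImplicit false
set_option linter.style.haveILetI false
set_option linter.unusedSectionVars false

namespace Cfsg.Agent.Cit.Nil.CVT

open Subgroup Cfsg Cit Tau CV CV1 Cfsg.Agent.Cit.Comp
open Cfsg.Agent.Cit.Nil.ROne (FSimp)
open Cfsg.Agent.SignalizersComponents.Components

variable {G : Type*} [Group G] [Finite G] {Om : Set (Subgroup G)} {U : Subgroup G → Subgroup G} {E H K L M N : Subgroup G}
  {a b e f g s t u v w x y z : G}

/-- `z² = 1` and `K` is generated by the elements with square `zz K` -/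
theorem exists_sq_not_mem (h : CVW Om U) (hK : K ∈ Om) {N : Subgroup G} (hN : ¬ K ≤ N) :
    ∃ k ∈ K, k ∉ N ∧ k * k = zz K := by
  by_contra hcon
  push Not at hcon
  apply hN
  obtain ⟨y, hy, hyX⟩ := h.exists_y hK
  have key : ∀ u ∈ K, u ∉ Tau.XX U K → u ∈ N := by
    intro u hu huX
    by_contra hn
    exact hcon u hu hn (h.y_facts hK hu huX).1
  intro x hx
  by_cases hxX : x ∈ Tau.XX U K
  · have h1 : x * y ∉ Tau.XX U K := by
      intro h2
      apply hyX
      have h3 := (Tau.XX U K).mul_mem ((Tau.XX U K).inv_mem hxX) h2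
      rwa [inv_mul_cancel_left] at h3
    have h2 := N.mul_mem (key _ (K.mul_mem hx hy) h1) (N.inv_mem (key y hy hyX))
    rwa [mul_inv_cancel_right] at h2
  · exact key x hx hxX

section comp

variable (hO : pPrimeCore 2 G = ⊥) (hO2 : pCore 2 G = ⊥) (hev : EvQ G)

include hO hO2

/-- some component is not centralised by `zz K` -/
theorem exists_comp (h : CVW Om U) (hK : K ∈ Om) : ∃ E : Subgroup G, IsComponent E ∧ ¬ E ≤ centralizer {zz K} := by
  by_contra hcon
  push Not at hcon
  apply h.hyp.zz_ne hK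
  have h1 : zz K ∈ pCore 2 G := by
    refine OneComp.centralizer_genFit_le hO (OneComp.mem_centralizer_genFit hO (fun L hL => ?_) ?_)
    · have h2 := hcon L hL
      rw [mem_centralizer_iff]
      exact fun l hl => mem_centralizer_singleton_iff.1 (h2 hl)
    · rw [hO2, mem_centralizer_iff]
      intro l hl
      rw [SetLike.mem_coe, mem_bot] at hl
      rw [hl, one_mul, mul_one]
  rwa [hO2, mem_bot] at h1

include hev

/-- Glauberman's theorem -/
theorem exists_conj (h : CVW Om U) (hK : K ∈ Om) (hE : IsComponent E) (hEz : ¬ E ≤ centralizer {zz K}) :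
    ∃ f ∈ E, zz K * (f * zz K * f⁻¹) = f * zz K * f⁻¹ * zz K ∧ f * zz K * f⁻¹ ≠ zz K := by
  haveI : Fact (Nat.Prime 2) := ⟨Nat.prime_two⟩
  by_contra hcon
  push Not at hcon
  apply hEz
  have hzE : zz K ∈ normalizer (E : Set G) := mem_normalizer_iff_cj.2 (cj_zz_component h.hyp hev hK hE)
  obtain ⟨z, hz⟩ : ∃ z, z = zz K := ⟨_, rfl⟩
  have hz2 : z * z = 1 := by rw [hz]; exact h.hyp.zz_mul hK
  have hz1 : z ≠ 1 := by rw [hz]; exact h.hyp.zz_ne hK
  rw [← hz] at hcon hzE ⊢
  obtain ⟨M, hM⟩ : ∃ M, M = E ⊔ zpowers z := ⟨_, rfl⟩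
  have hzM : z ∈ M := by rw [hM]; exact mem_sup_right (mem_zpowers _)
  have hEM : E ≤ M := by rw [hM]; exact le_sup_left
  have hMn : M ≤ normalizer (E : Set G) := by rw [hM]; exact sup_le le_normalizer (zpowers_le.2 hzE)
  have key : ∀ m ∈ M, ∃ e ∈ E, m * z * m⁻¹ = e * z * e⁻¹ := by
    intro m hm
    rw [hM] at hm
    obtain ⟨e, he, q, hq, rfl⟩ := LB.exists_mul_of_mem_sup (zpowers_le.2 hzE) hm
    refine ⟨e, he, ?_⟩
    obtain ⟨k, rfl⟩ := hq
    have h1 : z ^ k * z = z * z ^ k := ((Commute.refl z).zpow_left k).eq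
    calc e * z ^ k * z * (e * z ^ k)⁻¹ = e * (z ^ k * z) * (z ^ k)⁻¹ * e⁻¹ := by group
      _ = e * z * e⁻¹ := by rw [h1]; group
  obtain ⟨N, hN, hNodd, hNz⟩ := GH.QA.zstar (G := M) (u := ⟨z, hzM⟩) (Subtype.ext hz2)
    (fun h1 => hz1 (congrArg Subtype.val h1)) (by
      rintro ⟨m, hm⟩ h1
      have h2 : z * (m * z * m⁻¹) = m * z * m⁻¹ * z := congrArg Subtype.val h1
      obtain ⟨e, he, h3⟩ := key m hm
      apply Subtype.ext
      change m * z * m⁻¹ = z
      rw [h3] at h2 ⊢
      exact hcon e he h2)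
  intro m hm
  rw [mem_centralizer_singleton_iff]
  have h3 : z * m * z⁻¹ * m⁻¹ ∈ N.map M.subtype ⊓ E := by
    refine ⟨⟨_, hNz ⟨m, hEM hm⟩, rfl⟩, ?_⟩
    exact E.mul_mem ((mem_normalizer_iff.1 hzE _).1 hm) (E.inv_mem hm)
  have h4 : N.map M.subtype ⊓ E ≤ OO E := by
    refine le_OO inf_le_right ?_ ?_
    · intro y hy
      rw [mem_normalizer_iff_cj, cj_inf, mem_normalizer_iff_cj.1 (le_normalizer hy)]
      congr 1
      rw [← mem_normalizer_iff_cj]
      have h5 := (normal_subgroupOf_iff_le_normalizer (map_subtype_le N : N.map M.subtype ≤ _)).1 (by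
        rw [subgroupOf, comap_map_eq_self_of_injective M.subtype_injective]
        exact hN)
      exact h5 (hEM hy)
    · intro h5
      have h6 : Nat.card (N.map M.subtype) = Nat.card N :=
        card_map_of_injective M.subtype_injective
      have h7 := h5.trans (card_dvd_of_le (inf_le_left : N.map M.subtype ⊓ E ≤ _))
      rw [h6] at h7
      rw [← Nat.not_even_iff_odd, even_iff_two_dvd] at hNodd
      exact hNodd h7
  have h5 := h4 h3
  rw [CV1.TFree.OO_comp hO hO2 hev hE, Subgroup.mem_bot, mul_inv_eq_one, mul_inv_eq_iff_eq_mul] at h5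
  exact h5.symm

/-- **`K` normalises every component** -/
theorem norm_comp (h : CVW Om U) (hK : K ∈ Om) (hE : IsComponent E) : K ≤ normalizer (E : Set G) := by
  by_cases hEz : E ≤ centralizer {zz K}
  · -- `[E, K] = 1`
    rcases le_or_comm_of_le_centralizer h.hyp hK hE hEz with h1 | h1
    · exfalso
      -- `E ≤ K` is a 2-group
      have h2 : IsPGroup 2 E := (h.two K hK).to_le h1
      haveI : Fact (Nat.Prime 2) := ⟨Nat.prime_two⟩
      have h3 := quasisimple_not_isSolvable hE.2
      haveI := h2.isNilpotent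
      exact h3 inferInstance
    · intro k hk
      rw [mem_normalizer_iff]
      intro x
      constructor
      · intro hx
        rw [← h1 x hx k hk, mul_inv_cancel_right]
        exact hx
      · intro hx
        have h2 := h1 _ hx k hk
        have h3 : k * (k * x * k⁻¹) = k * x := by rw [← h2]; group
        have h4 := mul_left_cancel h3
        rwa [h4] at hx
  by_contra hKE
  obtain ⟨k, hk, hkE, hkk⟩ := exists_sq_not_mem h hK hKE
  obtain ⟨f, hf, hc, hne⟩ := exists_conj hO hO2 hev h hK hE hEz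
  have hzE : zz K ∈ normalizer (E : Set G) := mem_normalizer_iff_cj.2 (cj_zz_component h.hyp hev hK hE)
  rw [mem_normalizer_iff_cj] at hkE
  have hz2 := h.hyp.zz_mul hK
  have hzi := h.hyp.zz_inv hK
  -- distinct components commute
  have hEk : ∀ a ∈ E, ∀ b ∈ E, a * (k * b * k⁻¹) = k * b * k⁻¹ * a := fun a ha b hb =>
    comm_of_ne hE (isComponent_cj hE k) (Ne.symm hkE) ha (conj_mem_cj hb)
  obtain ⟨e, he⟩ : ∃ e, e = zz K * (f * zz K * f⁻¹) := ⟨_, rfl⟩
  have heE : e ∈ E := by
    have h1 : e = zz K * f * (zz K)⁻¹ * f⁻¹ := by rw [he, hzi]; group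
    rw [h1]
    exact E.mul_mem ((mem_normalizer_iff.1 hzE f).1 hf) (E.inv_mem hf)
  have he' : f * zz K * f⁻¹ = zz K * e := by rw [he, ← mul_assoc, hz2, one_mul]
  have hze : zz K * e = e * zz K := by
    rw [he]
    calc zz K * (zz K * (f * zz K * f⁻¹)) = zz K * (f * zz K * f⁻¹ * zz K) := by rw [hc]
      _ = zz K * (f * zz K * f⁻¹) * zz K := by group
  have he1 : e ≠ 1 := by
    rintro rfl
    rw [mul_one] at he'
    exact hne he'
  have hee : e * e = 1 := by
    have h1 : (f * zz K * f⁻¹) * (f * zz K * f⁻¹) = 1 := by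
      calc (f * zz K * f⁻¹) * (f * zz K * f⁻¹) = f * (zz K * zz K) * f⁻¹ := by group
        _ = 1 := by rw [hz2]; group
    rw [he'] at h1
    calc e * e = zz K * zz K * (e * e) := by rw [hz2, one_mul]
      _ = zz K * (zz K * e) * e := by group
      _ = zz K * (e * zz K) * e := by rw [hze]
      _ = zz K * e * (zz K * e) := by group
      _ = 1 := h1
  have hkz : k * zz K = zz K * k := h.hyp.comm_zz hK (le_normalizer hk)
  -- `(f f^k) k (f f^k)⁻¹ = e k`
  have key : (f * (k * f * k⁻¹)) * k * (f * (k * f * k⁻¹))⁻¹ = e * k := by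
    have h1 := hEk f⁻¹ (E.inv_mem hf) f⁻¹ (E.inv_mem hf)
    calc (f * (k * f * k⁻¹)) * k * (f * (k * f * k⁻¹))⁻¹ = f * k * f * ((k * f⁻¹ * k⁻¹) * f⁻¹) := by group
      _ = f * k * f * (f⁻¹ * (k * f⁻¹ * k⁻¹)) := by rw [← h1]
      _ = f * (k * k) * f⁻¹ * k⁻¹ := by group
      _ = f * zz K * f⁻¹ * k⁻¹ := by rw [hkk]
      _ = zz K * e * k⁻¹ := by rw [he']
      _ = e * (k * k) * k⁻¹ := by rw [hze, hkk]
      _ = e * k := by group
  have h4 : orderOf k = 4 := GQ.orderOf_of_sq hkk hz2 (h.hyp.zz_ne hK)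
  have hek : e * k ∈ normalizer (K : Set G) := by
    have h1 : e * k ∈ cj (f * (k * f * k⁻¹)) K := by
      rw [← key]
      exact conj_mem_cj hk
    refine h.norm_h3 (h.hyp.conj K hK _) hK h1 ?_ ?_
    · rw [← key]
      have h2 : orderOf ((f * (k * f * k⁻¹)) * k * (f * (k * f * k⁻¹))⁻¹) = 4 := orderOf_conj_four h4 _
      rw [h2]
    · calc e * k * zz K = e * (k * zz K) := by group
        _ = e * zz K * k := by rw [hkz]; group
        _ = zz K * (e * k) := by rw [← hze]; group
  have heK : e ∈ normalizer (K : Set G) := by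
    have h1 := mul_mem hek (inv_mem (le_normalizer hk))
    rwa [mul_inv_cancel_right] at h1
  -- `e (k e k⁻¹) = zz K`
  have hr : e * (k * e * k⁻¹) ∈ K := by
    have h1 := (mem_normalizer_iff.1 heK _).1 hk
    have h2 : e⁻¹ = e := inv_eq_of_mul_eq_one_left hee
    have h3 : e * (k * e * k⁻¹) = e * k * e⁻¹ * k⁻¹ := by rw [h2]; group
    rw [h3]
    exact K.mul_mem h1 (K.inv_mem hk)
  have hc2 := hEk e heE e heE
  have hr2 : e * (k * e * k⁻¹) * (e * (k * e * k⁻¹)) = 1 := by
    calc e * (k * e * k⁻¹) * (e * (k * e * k⁻¹)) = e * ((k * e * k⁻¹) * e) * (k * e * k⁻¹) := by group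
      _ = (e * e) * (k * (e * e) * k⁻¹) := by rw [← hc2]; group
      _ = 1 := by rw [hee]; group
  have hr1 : e * (k * e * k⁻¹) ≠ 1 := by
    intro h1
    apply he1
    refine CV1.TFree.eq_one_of_center hO hO2 hE heE fun y hy => ?_
    have h2 : k * e * k⁻¹ = e := by
      have h3 : e * (e * (k * e * k⁻¹)) = e := by rw [h1, mul_one]
      rwa [← mul_assoc, hee, one_mul] at h3
    have h3 := hEk y hy e heE
    rwa [h2] at h3
  have hz := h.hyp.eq_zz hK hr hr2 hr1
  -- `f z f⁻¹ = k e k⁻¹`
  have h5 : f * zz K * f⁻¹ = k * e * k⁻¹ := by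
    rw [he', hze, ← hz, ← mul_assoc, hee, one_mul]
  apply hne
  have h6 := hEk f hf e heE
  have h7 : zz K = k * e * k⁻¹ := by
    calc zz K = f⁻¹ * (f * zz K * f⁻¹) * f := by group
      _ = f⁻¹ * (k * e * k⁻¹ * f) := by rw [h5]; group
      _ = k * e * k⁻¹ := by rw [← h6]; group
  rw [h5, h7]

/-- **a simple normal subgroup with trivial centraliser** -/
theorem exists_fsimp (h : CVW (cls K) U) (hgen : normalClosure (K : Set G) = ⊤) :
    ∃ F : Subgroup G, FSimp F ∧ 2 ∣ Nat.card F := by
  have hK : K ∈ cls K := self_mem_cls K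
  obtain ⟨E, hE, hEz⟩ := exists_comp hO hO2 h hK
  have hEn : E.Normal := by
    rw [← normalizer_eq_top_iff, eq_top_iff, ← hgen]
    -- the conjugates of `K` normalise `E`
    have h1 : normalClosure (K : Set G) ≤ normalizer (E : Set G) := by
      rw [normalClosure, closure_le]
      intro x hx
      rw [Group.mem_conjugatesOfSet_iff] at hx
      obtain ⟨a, ha, hax⟩ := hx
      obtain ⟨g, rfl⟩ := isConj_iff.1 hax
      exact norm_comp hO hO2 hev h (K := cj g K) ⟨g, rfl⟩ hE (conj_mem_cj ha)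
    exact h1
  haveI := hEn
  refine ⟨E, ⟨hEn, CV1.TFree.simple hO hO2 hE, fun hc => ?_, ?_⟩, hev E hE.2⟩
  · exact quasisimple_not_isMulCommutative hE.2 ⟨⟨fun a b => Subtype.ext (hc a a.2 b b.2)⟩⟩
  · -- the centraliser
    by_contra hC
    obtain ⟨C, hCdef⟩ : ∃ C, C = centralizer (E : Set G) := ⟨_, rfl⟩
    have hCn : C.Normal := by rw [hCdef]; infer_instance
    rw [← hCdef] at hC
    have hCO : OO C = ⊥ := by
      have h3 : (OO C).Normal := by
        refine ⟨fun n hn g => ?_⟩
        have h4 : cj g C = C := mem_normalizer_iff_cj.1 (by rw [normalizer_eq_top_iff.2 hCn]; exact mem_top g)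
        have h5 : cj g (OO C) = OO C := by rw [← OO_cj, h4]
        rw [← h5]
        exact conj_mem_cj hn
      rw [eq_bot_iff, ← hO]
      refine Lib.Cores.le_pPrimeCore h3 ?_
      rw [Nat.coprime_comm]
      exact (Nat.Prime.coprime_iff_not_dvd Nat.prime_two).2 (odd_OO C)
    have hzC : zz K ∉ C := by
      intro h1
      apply hEz
      intro x hx
      rw [hCdef, mem_centralizer_iff] at h1
      exact mem_centralizer_singleton_iff.2 (h1 x hx)
    have hKC : K ≤ normalizer (C : Set G) := by rw [normalizer_eq_top_iff.2 hCn]; exact le_top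
    have h1 := h.hyp.lemma_two (fun L hL => h.two L hL) hK hKC hCO hzC
    have h2 : K ≤ centralizer (C : Set G) := by
      intro k hk
      rw [mem_centralizer_iff]
      intro c hc
      exact (h.hyp.comm_of_not_mem hK (h.two K hK) hKC hzC hc (mem_centralizer_singleton_iff.1 (h1 hc)) k hk).symm
    -- `C` is central
    have h3 : centralizer (C : Set G) = ⊤ := by
      rw [eq_top_iff, ← hgen]
      exact normalClosure_le_normal h2
    apply hC
    rw [eq_bot_iff]
    intro c hc
    rw [mem_bot]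
    have hcc : ∀ x : G, c * x = x * c := by
      intro x
      have : x ∈ centralizer (C : Set G) := by rw [h3]; exact mem_top x
      exact mem_centralizer_iff.1 this c hc
    -- an abelian normal subgroup
    by_contra hc1
    haveI : Fact (Nat.Prime 2) := ⟨Nat.prime_two⟩
    have hzn : ∀ j : ℕ, (zpowers (c ^ j)).Normal := by
      intro j
      refine ⟨fun n hn g => ?_⟩
      obtain ⟨i, rfl⟩ := hn
      have h4 : g * (c ^ j) ^ i * g⁻¹ = (c ^ j) ^ i := by
        have h5 : Commute g c := (hcc g).symm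
        have h6 : Commute g ((c ^ j) ^ i) := (h5.pow_right j).zpow_right i
        rw [h6.eq, mul_inv_cancel_right]
      simp only
      rw [h4]
      exact ⟨i, rfl⟩
    by_cases h2c : 2 ∣ orderOf c
    · obtain ⟨m, hm⟩ := h2c
      have hpos := orderOf_pos c
      have hd1 : c ^ m ≠ 1 := by
        intro hh
        have := Nat.le_of_dvd (by omega) (orderOf_dvd_of_pow_eq_one hh)
        omega
      have hd2 : (c ^ m) ^ 2 = 1 := by rw [← pow_mul, mul_comm, ← hm, pow_orderOf_eq_one]
      have h4 : IsPGroup 2 (zpowers (c ^ m)) := by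
        apply IsPGroup.of_card (n := 1)
        rw [Nat.card_zpowers, orderOf_eq_prime hd2 hd1, pow_one]
      have h5 := Lib.Cores.le_pCore (hzn m) h4
      rw [hO2, le_bot_iff, zpowers_eq_bot] at h5
      exact hd1 h5
    · have h4 : zpowers c ≤ pPrimeCore 2 G := by
        have h5 := hzn 1
        rw [pow_one] at h5
        refine Lib.Cores.le_pPrimeCore h5 ?_
        rw [Nat.card_zpowers, Nat.coprime_comm]
        exact (Nat.Prime.coprime_iff_not_dvd Nat.prime_two).2 h2c
      rw [hO, le_bot_iff, zpowers_eq_bot] at h4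
      exact hc1 h4

end comp

end Cfsg.Agent.Cit.Nil.CVT
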