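import Cfsg.Agent.Cit.Nil.CVT.Sub
import Cfsg.Agent.Cit.Nil.CV.BlockOne

/-!
# (6b)(CV), the frame: (ex) for unlinked roots

`PreBlk Om e BB` with `BB = BL K X`, `zz K ∉ O_2(X)`. Suppose that the involutions `zz N ∈ N(A)`, `N ∈ BB`, are in `A`.

* `PreBlk.transfer` : `y ∈ YY`, `v`, `y v y⁻¹ ∈ A`: `N(A) ∩ YY` moves `y v y⁻¹` to `v`;
* `iso` : if no root of `A` in `BB` is linked to `v`, `zz K` is isolated in `X`;
* `false_of_iso` : Glauberman's theorem.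
-/

set_option autoImplicit false
set_option linter.style.haveILetI false
set_option linter.unusedSectionVars false

namespace Cfsg.Agent.Cit.Nil.CVT

open Subgroup Cfsg Cit Tau CV CV1 Cfsg.Agent.Cit.Comp

universe u

variable {G : Type*} [Group G] [Finite G] {Om BB : Set (Subgroup G)} {U : Subgroup G → Subgroup G}
  {A B K L M N P X : Subgroup G} {a c d e f g s t u v w x y : G}

/-- `N(A) ∩ YY` controls the fusion of roots -/
theorem transfer (b : PreBlk Om e BB) (h : CVW Om U) (hA : IsA Om U A) (he : e ∈ A) (hv : v ∈ RB Om U A BB)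
    (hy : y ∈ YY e BB) (hyv : y * v * y⁻¹ ∈ A) :
    ∃ g ∈ YY e BB, g ∈ normalizer (A : Set G) ∧ g * (y * v * y⁻¹) * g⁻¹ = v := by
  obtain ⟨hvR, K, hK, hvK⟩ := hv
  have hKO := (b.sub K hK).1
  have hAY := b.A_le_YY h hA he hK hvK hvR.2.1 hvR.1
  obtain ⟨B, hB⟩ : ∃ B, B = Cit.cj y⁻¹ A := ⟨_, rfl⟩
  have hBA : IsA Om U B := by rw [hB]; exact h.isA_cj hA y⁻¹
  have hvB : v ∈ B := by
    rw [hB, mem_cj, inv_inv]
    exact hyv
  have hBY : B ≤ YY e BB := by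
    rw [hB]
    rintro _ ⟨x, hx, rfl⟩
    exact mul_mem (mul_mem (inv_mem hy) (hAY hx)) (inv_mem (inv_mem hy))
  obtain ⟨D, hD⟩ : ∃ D, D = YY e BB ⊓ centralizer {v} := ⟨_, rfl⟩
  have hAD : A ≤ D := by
    rw [hD]
    exact le_inf hAY fun x hx => mem_centralizer_singleton_iff.2 (h.comm hA hx hvR.1)
  have hBD : B ≤ D := by
    rw [hD]
    exact le_inf hBY fun x hx => mem_centralizer_singleton_iff.2 (h.comm hBA hx hvB)
  obtain ⟨Q, hQ, hAQ⟩ := exists_syl_ge (CVW.isA_two hA) hAD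
  obtain ⟨R, hR, hBR⟩ := exists_syl_ge (CVW.isA_two hBA) hBD
  obtain ⟨d, hd, hdR⟩ := hR.exists_conj hQ
  have h1 : WW Om U Q = A := h.WW_eq hA hQ.2.1 hAQ
  have h2 : WW Om U Q = Cit.cj d B := h.WW_eq (h.isA_cj hBA d) hQ.2.1 (by rw [← hdR]; exact cj_mono d hBR)
  have hdv : d * v = v * d := mem_centralizer_singleton_iff.1 (by rw [hD] at hd; exact hd.2)
  have hdY : d ∈ YY e BB := by rw [hD] at hd; exact hd.1
  refine ⟨d * y⁻¹, mul_mem hdY (inv_mem hy), ?_, ?_⟩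
  · rw [mem_normalizer_iff_cj, cj_mul, ← hB, ← h2, h1]
  · calc d * y⁻¹ * (y * v * y⁻¹) * (d * y⁻¹)⁻¹ = (d * v) * d⁻¹ := by group
      _ = v := by rw [hdv, mul_inv_cancel_right]

/-- two commuting involutions of `BB` are conjugate into `A` -/
theorem exists_conj_pair (b : PreBlk Om e BB) (h : CVW Om U) (hA : IsA Om U A) (he : e ∈ A)
    (hno : ∀ N ∈ BB, zz N ∈ normalizer (A : Set G) → zz N ∈ A) (hK : K ∈ BB) (hvK : v ∈ U K) (hv4 : orderOf v = 4)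
    (hvA : v ∈ A) (hM : M ∈ BB) (hN : N ∈ BB) (hu : u ∈ U M) (hu4 : orderOf u = 4) (hw : w ∈ U N) (hw4 : orderOf w = 4)
    (hc : zz M * zz N = zz N * zz M) :
    ∃ y ∈ YY e BB, y * u * y⁻¹ ∈ RB Om U A BB ∧ y * w * y⁻¹ ∈ RB Om U A BB := by
  haveI : Fact (Nat.Prime 2) := ⟨Nat.prime_two⟩
  have hMO := (b.sub M hM).1
  have hNO := (b.sub N hN).1
  have hAY := b.A_le_YY h hA he hK hvK hv4 hvA
  obtain ⟨V, hV⟩ : ∃ V, V = zpowers (zz M) ⊔ zpowers (zz N) := ⟨_, rfl⟩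
  have h2z : ∀ {L}, L ∈ Om → IsPGroup 2 (zpowers (zz L)) := fun {L} hL =>
    (h.two L hL).to_le (zpowers_le.2 (h.hyp.zz_mem hL))
  have hV2 : IsPGroup 2 V := by
    rw [hV]
    refine (h2z hMO).to_sup_of_normal_right' (h2z hNO) ?_
    rw [zpowers_le]
    refine centralizer_le_normalizer _ ?_
    intro x hx
    obtain ⟨i, rfl⟩ := mem_zpowers_iff.1 hx
    exact ((Commute.zpow_right (show Commute (zz M) (zz N) from hc) i).symm).eq
  have hVY : V ≤ YY e BB := by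
    rw [hV]
    exact sup_le (zpowers_le.2 (b.mem_YY hM (h.hyp.zz_mem hMO))) (zpowers_le.2 (b.mem_YY hN (h.hyp.zz_mem hNO)))
  obtain ⟨P, hP, hAP⟩ := exists_syl_ge (CVW.isA_two hA) hAY
  obtain ⟨Q, hQ, hVQ⟩ := exists_syl_ge hV2 hVY
  obtain ⟨y, hy, hyQ⟩ := hQ.exists_conj hP
  have hPn := h.le_norm hA hP.2.1 hAP
  have key : ∀ {L u}, L ∈ BB → u ∈ U L → orderOf u = 4 → zz L ∈ V → y * u * y⁻¹ ∈ RB Om U A BB := by
    intro L u hL hu hu4 hz
    have hLO := (b.sub L hL).1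
    have h1 : zz (Cit.cj y L) ∈ P := by
      rw [h.hyp.zz_cj hLO, ← hyQ]
      exact conj_mem_cj (hVQ hz)
    have h2 : Cit.cj y L ∈ BB := (hy.2 L).2 hL
    exact b.mem_A_of_zz h hA he hK hvK hv4 hvA h2 (hno _ h2 (hPn h1)) (h.vch.conj_mem hLO hu y)
      (orderOf_conj_four hu4 y)
  exact ⟨y, hy, key hM hu hu4 (by rw [hV]; exact mem_sup_left (mem_zpowers _)),
    key hN hw hw4 (by rw [hV]; exact mem_sup_right (mem_zpowers _))⟩

/-- **`zz K` is isolated** if no root of `A` in `BB` is linked to `v` -/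
theorem iso (b : PreBlk Om e BB) (h : CVW Om U) (hA : IsA Om U A) (he : e ∈ A)
    (hno : ∀ N ∈ BB, zz N ∈ normalizer (A : Set G) → zz N ∈ A) (hK : K ∈ BB) (hvK : v ∈ U K) (hv4 : orderOf v = 4)
    (hvA : v ∈ A) (hall : ∀ u ∈ RB Om U A BB, ¬ Lk Om U v u) (hN : N ∈ BB) (hc : zz K * zz N = zz N * zz K) : K = N := by
  by_contra hne
  have hNO := (b.sub N hN).1
  obtain ⟨w, hw, hw4⟩ := h.exists_v hNO
  obtain ⟨y, hy, h1, h2⟩ := exists_conj_pair b h hA he hno hK hvK hv4 hvA hK hN hvK hv4 hw hw4 hc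
  have hvB : v ∈ RB Om U A BB := ⟨⟨hvA, hv4, K, (b.sub K hK).1, hvK⟩, K, hK, hvK⟩
  obtain ⟨g, hg, hgA, hgv⟩ := transfer b h hA he hvB hy h1.1.1
  have h3 : g * (y * w * y⁻¹) * g⁻¹ ∈ RB Om U A BB :=
    PreBlk.RB_conj h (fun K hK => (b.sub K hK).1) hgA (fun L hL => (hg.2 L).2 hL) h2
  apply hall _ h3
  have h4 : Lk Om U (y * v * y⁻¹) (y * w * y⁻¹) := by
    by_contra hl
    apply hne
    have hKO := (b.sub K hK).1
    have h5 := b.rb_class h hA h1 h2 hl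
    have h6 : w = v ∨ w = v⁻¹ := by
      rcases h5 with h5 | h5
      · left
        have := congrArg (fun x => y⁻¹ * x * y) h5
        simpa [mul_assoc] using this
      · right
        have := congrArg (fun x => y⁻¹ * x * y) h5
        simpa [mul_assoc] using this
    rcases h6 with rfl | rfl
    · exact h.eq_of_mem hKO hNO hvK hw hv4
    · exact h.eq_of_mem hKO hNO ((U K).inv_mem hvK) hw hw4
  have h5 := h.al_conj hA hgA h1.1 h2.1.1
  rw [hgv] at h5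
  exact ⟨by rw [h5]; exact h4.1, by rw [h5]; exact h4.2⟩

/-- **Glauberman's theorem** -/
theorem mem_pCore_of_iso (hO : pPrimeCore 2 X = ⊥) {z : G} (hzX : z ∈ X) (hz2 : z * z = 1) (hz1 : z ≠ 1)
    (hiso : ∀ x ∈ X, z * (x * z * x⁻¹) = x * z * x⁻¹ * z → x * z * x⁻¹ = z) : z ∈ (pCore 2 X).map X.subtype := by
  obtain ⟨N, hN, hNodd, hNz⟩ := GH.QA.zstar (G := X) (u := ⟨z, hzX⟩) (Subtype.ext hz2)
    (fun h1 => hz1 (congrArg Subtype.val h1)) (by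
      rintro ⟨x, hx⟩ h1
      exact Subtype.ext (hiso x hx (congrArg Subtype.val h1)))
  haveI : Fact (Nat.Prime 2) := ⟨Nat.prime_two⟩
  have h1 : N = ⊥ := by
    rw [eq_bot_iff, ← hO]
    refine Lib.Cores.le_pPrimeCore hN ?_
    rw [Nat.coprime_comm]
    refine (Nat.Prime.coprime_iff_not_dvd Nat.prime_two).2 fun h2 => ?_
    rw [← Nat.not_even_iff_odd, even_iff_two_dvd] at hNodd
    exact hNodd h2
  rw [h1] at hNz
  have h2 : ∀ m : X, (⟨z, hzX⟩ : X) * m = m * ⟨z, hzX⟩ := by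
    intro m
    have h3 := hNz m
    rw [Subgroup.mem_bot, mul_inv_eq_one, mul_inv_eq_iff_eq_mul] at h3
    exact h3
  have h3 : (zpowers (⟨z, hzX⟩ : X)).Normal := by
    refine ⟨?_⟩
    rintro _ ⟨i, rfl⟩ g
    have h4 : Commute g ((⟨z, hzX⟩ : X) ^ i) := Commute.zpow_right (h2 g).symm i
    refine ⟨i, ?_⟩
    change (⟨z, hzX⟩ : X) ^ i = g * (⟨z, hzX⟩ : X) ^ i * g⁻¹
    rw [h4.eq, mul_inv_cancel_right]
  have h4 : IsPGroup 2 (zpowers (⟨z, hzX⟩ : X)) := by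
    apply IsPGroup.of_card (n := 1)
    rw [Nat.card_zpowers, pow_one, orderOf_eq_prime_iff, pow_two]
    exact ⟨Subtype.ext hz2, fun h5 => hz1 (congrArg Subtype.val h5)⟩
  exact ⟨_, Lib.Cores.le_pCore h3 h4 (mem_zpowers _), rfl⟩

/-- **(ex), unlinked roots** -/
theorem ex_one (b : PreBlk Om e (BL K X)) (h : CVW Om U) (hKX : K ≤ X) (hO : pPrimeCore 2 X = ⊥)
    (hz : zz K ∉ (pCore 2 X).map X.subtype) (hA : IsA Om U A) (he : e ∈ A) (hL : L ∈ BL K X) (hvL : v ∈ U L)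
    (hv4 : orderOf v = 4) (hvA : v ∈ A) (hall : ∀ u ∈ RB Om U A (BL K X), ¬ Lk Om U v u) :
    ∃ N ∈ BL K X, zz N ∈ normalizer (A : Set G) ∧ zz N ∉ A := by
  by_contra hno
  push Not at hno
  apply hz
  have hKB : K ∈ BL K X := self_mem_BL
  have hKO := (b.sub K hKB).1
  have hLO := (b.sub L hL).1
  obtain ⟨g, hg, hgL⟩ := id hL
  have h1 : zz L ∈ (pCore 2 X).map X.subtype := by
    refine mem_pCore_of_iso hO (BL_le hKX hL (h.hyp.zz_mem hLO)) (h.hyp.zz_mul hLO) (h.hyp.zz_ne hLO) ?_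
    intro x hx hc
    rw [← h.hyp.zz_cj hLO] at hc ⊢
    have h2 : Cit.cj x L ∈ BL K X := ⟨x * g, X.mul_mem hx hg, by rw [hgL, ← cj_mul]⟩
    rw [← iso b h hA he hno hL hvL hv4 hvA hall h2 hc]
  have h2 : zz L = g * zz K * g⁻¹ := by rw [hgL, h.hyp.zz_cj hKO]
  obtain ⟨x, hx, hxz⟩ := h1
  have h3 := (Lib.Cores.pCore_normal 2 (G := X)).conj_mem x hx (⟨g, hg⟩⁻¹ : X)
  refine ⟨_, h3, ?_⟩
  change g⁻¹ * (x : G) * g⁻¹⁻¹ = zz K
  have h4 : (x : G) = zz L := hxz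
  rw [h4, h2]
  group

end Cfsg.Agent.Cit.Nil.CVT
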