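import Cfsg.Agent.Cit.Nil.CV1.Inherit

/-!
# (6b)(CV): inheritance of the world `CVW`

`CVW.sub` (subfamilies), `CVW.restr` (subgroups), `CVW.cls_restr` (one class of a subgroup), `CVW.imgc` (central quotients).
The proofs are those of `CV1/Inherit.lean` (helper463) without the condition `lin`.
-/

set_option autoImplicit false
set_option linter.style.haveILetI false
set_option linter.unusedSectionVars false

namespace Cfsg.Agent.Cit.Nil.CVT

open Subgroup Cfsg Cit Tau CV CV1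

variable {G : Type*} [Group G] {Om : Set (Subgroup G)} {U : Subgroup G → Subgroup G} {H K L M N X : Subgroup G}

/-! ### Subfamilies -/

section sub

variable [Finite G]

theorem CVW.sub (w : CVW Om U) {Om' : Set (Subgroup G)} (hsub : Om' ⊆ Om) (hc : ∀ K ∈ Om', ∀ g, cj g K ∈ Om') :
    CVW Om' U :=
  { hyp := QuoCen.hyp_subset w.hyp hsub hc
    two := fun K hK => w.two K (hsub hK)
    vch :=
      { le := fun K hK => w.vch.le K (hsub hK)
        cj := fun K hK => w.vch.cj K (hsub hK)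
        oo := fun K hK => w.vch.oo K (hsub hK)
        card := fun K hK => w.vch.card K (hsub hK)
        ex := fun K hK => w.vch.ex K (hsub hK) }
    eqc := fun K hK L hL => w.eqc K (hsub hK) L (hsub hL) }

theorem cls_subset (hyp : Hyp Om) (hK : K ∈ Om) : cls K ⊆ Om := by
  rintro _ ⟨g, rfl⟩
  exact hyp.conj K hK g

theorem cls_cj_mem {K : Subgroup G} : ∀ L ∈ cls K, ∀ g, cj g L ∈ cls K := by
  rintro _ ⟨h, rfl⟩ g
  exact ⟨g * h, by rw [cj_mul]⟩

theorem CVW.cls (w : CVW Om U) (hK : K ∈ Om) : CVW (cls K) U := CVW.sub w (cls_subset w.hyp hK) cls_cj_mem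

/-- a member is not abelian -/
theorem CVW.not_comm (w : CVW Om U) (hK : K ∈ Om) : ∃ x ∈ K, ∃ y ∈ K, x * y ≠ y * x := by
  obtain ⟨v, hv, hv4⟩ := w.exists_v hK
  obtain ⟨y, hy, hyX⟩ := w.exists_y hK
  refine ⟨y, hy, v, w.vch.le K hK hv, fun h => ?_⟩
  have h1 := w.y_inv hK hy hyX hv
  rw [h, mul_inv_cancel_right] at h1
  have h2 : v * v = 1 := by
    nth_rewrite 1 [h1]
    exact inv_mul_cancel v
  rw [w.sq_eq hK hv hv4] at h2
  exact w.hyp.zz_ne hK h2

end sub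

/-! ### Subgroups -/

theorem CVW.restr [Finite G] (w : CVW Om U) (H : Subgroup G) : CVW (restr Om H) (uH H U) := by
  have hle : ∀ J ∈ Cit.restr Om H, U (J.map H.subtype) ≤ H := fun J hJ =>
    (w.vch.le _ hJ).trans (map_subtype_le J)
  have htwo : ∀ J ∈ Cit.restr Om H, IsPGroup 2 J := fun J hJ =>
    (w.two _ hJ).of_equiv (J.equivMapOfInjective _ H.subtype_injective).symm
  refine ⟨w.hyp.restr H, htwo, ⟨?_, ?_, ?_, ?_, ?_⟩, ?_⟩
  · intro J hJ x hx
    obtain ⟨y, hy, hyx⟩ := w.vch.le _ hJ (mem_uH.1 hx)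
    have : y = x := Subtype.ext hyx
    rwa [← this]
  · intro J hJ g
    ext x
    rw [mem_uH, cj_map, w.vch.cj _ hJ, mem_cj, mem_cj, mem_uH]
    simp
  · intro J hJ
    rw [OO_eq_bot_of_two (htwo J hJ)]
    exact bot_le
  · intro J hJ
    rw [OO_eq_bot_of_two (htwo J hJ), card_bot]
    have h1 := w.vch.card _ hJ
    rw [w.oo hJ, card_bot] at h1
    rw [← h1]
    exact Nat.card_congr (subgroupOfEquivOfLe (hle J hJ)).toEquiv
  · intro J hJ
    obtain ⟨v, hv, hv4⟩ := w.exists_v hJ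
    exact ⟨⟨v, hle J hJ hv⟩, hv, by rw [Subgroup.orderOf_mk]; exact hv4⟩
  · intro J hJ J' hJ'
    have h1 := w.eqc _ hJ _ hJ'
    rwa [card_map_of_injective H.subtype_injective, card_map_of_injective H.subtype_injective] at h1

/-- the class of `K` in the subgroup `X` -/
theorem CVW.cls_restr [Finite G] (w : CVW Om U) (hK : K ∈ Om) (hKX : K ≤ X) :
    CVW (Cit.cls (K.subgroupOf X)) (uH X U) :=
  CVW.cls (CVW.restr w X) (subgroupOf_mem_restr hK hKX)

theorem map_cls_subgroupOf (hKX : K ≤ X) {J : Subgroup X} (hJ : J ∈ Cit.cls (K.subgroupOf X)) :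
    ∃ g ∈ X, J.map X.subtype = cj g K := by
  obtain ⟨g, rfl⟩ := hJ
  refine ⟨g, g.2, ?_⟩
  rw [cj_map, map_subgroupOf_eq_of_le hKX]
  rfl

theorem cj_mem_cls_subgroupOf (hKX : K ≤ X) {g : G} (hg : g ∈ X) :
    (cj g K).subgroupOf X ∈ Cit.cls (K.subgroupOf X) := by
  refine ⟨⟨g, hg⟩, ?_⟩
  apply Subgroup.map_injective X.subtype_injective
  rw [cj_map, map_subgroupOf_eq_of_le hKX, map_subgroupOf_eq_of_le]
  · rfl
  · rintro _ ⟨x, hx, rfl⟩
    exact X.mul_mem (X.mul_mem hg (hKX hx)) (X.inv_mem hg)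

/-! ### Images -/

section img

variable {G' : Type*} [Group G'] {f : G →* G'}

/-- the world passes to images as soon as `f` is injective on the members and the choice is well defined -/
theorem CVW.img_aux [Finite G] (w : CVW Om U) (hf : Function.Surjective f) (hyp : Hyp (Cit.img f Om))
    (hinj : ∀ K ∈ Om, K ⊓ f.ker = ⊥)
    (hU : ∀ K ∈ Om, ∀ L ∈ Om, K.map f = L.map f → (U K).map f = (U L).map f) :
    CVW (Cit.img f Om) (imgU f Om U) := by
  haveI : Finite G' := Finite.of_surjective f hf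
  have hUinf : ∀ K ∈ Om, U K ⊓ f.ker = ⊥ := fun K hK =>
    le_bot_iff.1 ((inf_le_inf_right _ (w.vch.le K hK)).trans (hinj K hK).le)
  have htwo : ∀ J ∈ Cit.img f Om, IsPGroup 2 J := by
    rintro _ ⟨K, hK, rfl⟩
    exact (w.two K hK).map f
  refine ⟨hyp, htwo, ⟨?_, ?_, ?_, ?_, ?_⟩, ?_⟩
  · rintro _ ⟨K, hK, rfl⟩
    rw [imgU_map hU hK]
    exact Subgroup.map_mono (w.vch.le K hK)
  · rintro _ ⟨K, hK, rfl⟩ g'
    obtain ⟨g, rfl⟩ := hf g'
    rw [← cj_map, imgU_map hU hK, imgU_map hU (w.hyp.conj K hK g), w.vch.cj K hK, cj_map]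
  · intro J hJ
    rw [OO_eq_bot_of_two (htwo J hJ)]
    exact bot_le
  · rintro _ ⟨K, hK, rfl⟩
    rw [OO_eq_bot_of_two (htwo _ ⟨K, hK, rfl⟩), card_bot, imgU_map hU hK]
    have h1 := w.vch.card _ hK
    rw [w.oo hK, card_bot] at h1
    rw [← h1]
    exact (Nat.card_congr (QuoCen.equivMap (hUinf K hK)).toEquiv).symm
  · rintro _ ⟨K, hK, rfl⟩
    obtain ⟨v, hv, hv4⟩ := w.exists_v hK
    rw [imgU_map hU hK]
    exact ⟨f v, ⟨v, hv, rfl⟩, by rw [QuoCen.orderOf_map (hUinf K hK) hv]; exact hv4⟩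
  · rintro _ ⟨K, hK, rfl⟩ _ ⟨L, hL, rfl⟩
    rw [← Nat.card_congr (QuoCen.equivMap (hinj K hK)).toEquiv, ← Nat.card_congr (QuoCen.equivMap (hinj L hL)).toEquiv]
    exact w.eqc K hK L hL

variable [Finite G]

/-- images with abelian intersection: two members with the same image do not commute -/
theorem CVW.not_comm_map (w : CVW Om U) (hK : K ∈ Om) (hinj : K ⊓ f.ker = ⊥) (hKL : K.map f = L.map f) :
    ¬ ∀ x ∈ K, ∀ y ∈ L, x * y = y * x := by
  intro h
  obtain ⟨x, hx, y, hy, hxy⟩ := CVW.not_comm w hK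
  obtain ⟨y', hy', hyy⟩ : f y ∈ L.map f := by rw [← hKL]; exact ⟨y, hy, rfl⟩
  have h2 : f (x * y) = f (y * x) := by
    rw [map_mul, map_mul, ← hyy, ← map_mul, ← map_mul, h x hx y' hy']
  exact hxy (congrArg Subtype.val (QuoCen.injOn_of_inf hinj
    (a₁ := ⟨x * y, K.mul_mem hx hy⟩) (a₂ := ⟨y * x, K.mul_mem hy hx⟩) h2))

/-- images of orthogonal members are orthogonal when `f` is injective on the members -/
theorem CVW.orth_map (w : CVW Om U) (hK : K ∈ Om) (hinj : K ⊓ f.ker = ⊥) (h : Orth K L) :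
    Orth (K.map f) (L.map f) := by
  have h1 : ∀ x ∈ K.map f, ∀ y ∈ L.map f, x * y = y * x := by
    rintro _ ⟨x, hx, rfl⟩ _ ⟨y, hy, rfl⟩
    rw [← map_mul, ← map_mul, h.2 x hx y hy]
  exact ⟨fun hKL => CVW.not_comm_map w hK hinj hKL h.2, h1⟩

/-- `f` is injective on `Om` -/
theorem CVW.eq_of_map_eq (w : CVW Om U) (hC : f.ker ≤ center G) (hKC : ∀ K ∈ Om, K ⊓ f.ker = ⊥) (hK : K ∈ Om)
    (hL : L ∈ Om) (hKL : K.map f = L.map f) : K = L := by
  by_contra hne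
  -- `zz K = [y, v]`
  obtain ⟨v, hv, hv4⟩ := w.exists_v hK
  obtain ⟨y, hy, hyX⟩ := w.exists_y hK
  have hvK := w.vch.le K hK hv
  have h1 := w.y_inv hK hy hyX hv
  obtain ⟨v', hv', hvv⟩ : f v ∈ L.map f := by rw [← hKL]; exact ⟨v, hvK, rfl⟩
  obtain ⟨y', hy', hyy⟩ : f y ∈ L.map f := by rw [← hKL]; exact ⟨y, hy, rfl⟩
  have hcen : ∀ {a b : G}, f a = f b → ∀ x : G, x * (a⁻¹ * b) = a⁻¹ * b * x := by
    intro a b hab x
    exact mem_center_iff.1 (hC (by rw [MonoidHom.mem_ker, map_mul, map_inv, hab, inv_mul_cancel])) x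
  have e1 : y' * v' * y'⁻¹ * v'⁻¹ = y * v * y⁻¹ * v⁻¹ := by
    have c1 := hcen hyy.symm
    have c2 := hcen hvv.symm
    have f1 : y' = y * (y⁻¹ * y') := by group
    have f2 : v' = v * (v⁻¹ * v') := by group
    set c := y⁻¹ * y' with hc
    set d := v⁻¹ * v' with hd
    rw [f1, f2]
    have g1 : ∀ x : G, Commute c x := fun x => (c1 x).symm
    have g2 : ∀ x : G, Commute d x := fun x => (c2 x).symm
    calc y * c * (v * d) * (y * c)⁻¹ * (v * d)⁻¹ = y * (c * (v * d * c⁻¹)) * y⁻¹ * (d⁻¹ * v⁻¹) := by group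
      _ = y * ((v * d * c⁻¹) * c) * y⁻¹ * (d⁻¹ * v⁻¹) := by rw [(g1 _).eq]
      _ = y * v * (d * (y⁻¹ * d⁻¹)) * v⁻¹ := by group
      _ = y * v * ((y⁻¹ * d⁻¹) * d) * v⁻¹ := by rw [(g2 _).eq]
      _ = y * v * y⁻¹ * v⁻¹ := by group
  have h2 : v * v = zz K := w.sq_eq hK hv hv4
  have e2 : zz K ∈ L := by
    have e3 : (y * v * y⁻¹ * v⁻¹)⁻¹ = zz K := by rw [h1, mul_inv_rev, inv_inv, h2]
    rw [← e3, ← e1]
    exact L.inv_mem (L.mul_mem (L.mul_mem (L.mul_mem hy' hv') (L.inv_mem hy')) (L.inv_mem hv'))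
  have e4 : zz K = zz L := w.hyp.uniq L hL _ e2 (w.hyp.orderOf_zz hK)
  exact CVW.not_comm_map w hK (hKC K hK) hKL fun x hx y hy => w.comm_of_zz_eq hK hL e4 hne hx hy

/-- **central quotients** -/
theorem CVW.imgc (w : CVW Om U) (hf : Function.Surjective f) (hC : f.ker ≤ center G)
    (hKC : ∀ K ∈ Om, K ⊓ f.ker = ⊥) : CVW (Cit.img f Om) (imgU f Om U) := by
  refine CVW.img_aux w hf (QuoCen.hyp_img_central w.hyp hf hC hKC) hKC ?_
  intro K hK L hL hKL
  rw [CVW.eq_of_map_eq w hC hKC hK hL hKL]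

omit [Finite G] in
theorem img_cls (hf : Function.Surjective f) (K : Subgroup G) : Cit.img f (Cit.cls K) = Cit.cls (K.map f) := by
  ext J
  constructor
  · rintro ⟨_, ⟨g, rfl⟩, rfl⟩
    exact ⟨f g, by rw [cj_map]⟩
  · rintro ⟨g', rfl⟩
    obtain ⟨g, rfl⟩ := hf g'
    exact ⟨cj g K, ⟨g, rfl⟩, by rw [cj_map]⟩

end img

/-! ### `zz K ∉ N` and `K ⊓ N = ⊥` -/

section inf

variable [Finite G]

theorem CVW.inf_eq_bot (w : CVW Om U) (hK : K ∈ Om) (hz : zz K ∉ N) : K ⊓ N = ⊥ := by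
  rw [eq_bot_iff]
  intro x hx
  rw [mem_bot]
  exact w.hyp.eq_one_of_mem hK (w.two K hK) hz hx.1 hx.2

end inf

end Cfsg.Agent.Cit.Nil.CVT
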