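import Cfsg.Agent.Cit.Nil.CVT.Comp

/-!
# (6b)(CV), the frame: reduction of T to the simple case

`TW K U`  : the world: `O(G) = 1`, the class of `K` generates `G`;
`TConc K` : `zz K ∈ O_2(G)` or there are no orthogonal members;
`TLt n`   : `TW K U → TConc K` for the groups of order less than `n`;
`SC K U F` : the simple case: `F` is simple, normal, with trivial centraliser, `TLt (|G|)`;
`SimpleStmt` : there are no orthogonal members in the simple case.

* `tLt` : `SimpleStmt` implies `TLt n` for all `n`.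
-/

set_option autoImplicit false
set_option linter.style.haveILetI false
set_option linter.unusedSectionVars false

namespace Cfsg.Agent.Cit.Nil.CVT

open Subgroup Cfsg Cit Tau CV CV1 Cfsg.Agent.Cit.Comp
open Cfsg.Agent.Cit.Nil.ROne (FSimp)

universe u

/-- the world of T -/
structure TW {G : Type*} [Group G] (K : Subgroup G) (U : Subgroup G → Subgroup G) : Prop where
  cvw : CVW (cls K) U
  gen : normalClosure (K : Set G) = ⊤
  odd : pPrimeCore 2 G = ⊥

/-- the conclusion of T -/
def TConc {G : Type*} [Group G] (K : Subgroup G) : Prop :=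
  zz K ∈ pCore 2 G ∨ ∀ L ∈ cls K, ¬ Orth K L

/-- T for the groups of order less than `n` -/
def TLt (n : ℕ) : Prop := ∀ (G : Type u) [Group G] [Finite G] (K : Subgroup G) (U : Subgroup G → Subgroup G),
  Nat.card G < n → TW K U → TConc K

/-- the simple case -/
structure SC {G : Type u} [Group G] (K : Subgroup G) (U : Subgroup G → Subgroup G) (F : Subgroup G) : Prop where
  cvw : CVW (cls K) U
  f : FSimp F
  even : 2 ∣ Nat.card F
  ih : TLt.{u} (Nat.card G)

/-- **the simple case** -/
def SimpleStmt : Prop := ∀ (G : Type u) [Group G] [Finite G] (K : Subgroup G) (U : Subgroup G → Subgroup G)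
  (F : Subgroup G), SC.{u} K U F → ∀ L ∈ cls K, ¬ Orth K L

section

variable {G : Type u} [Group G] [Finite G] {K L : Subgroup G} {U : Subgroup G → Subgroup G}

theorem OO_top_eq_bot (h : pPrimeCore 2 G = ⊥) : OO (⊤ : Subgroup G) = ⊥ := by
  have h3 : (OO (⊤ : Subgroup G)).Normal := by
    refine ⟨fun n hn g => ?_⟩
    have h4 : cj g (⊤ : Subgroup G) = ⊤ := by
      rw [eq_top_iff]
      intro x _
      rw [mem_cj]
      exact mem_top _
    have h5 : cj g (OO (⊤ : Subgroup G)) = OO (⊤ : Subgroup G) := by rw [← OO_cj, h4]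
    rw [← h5]
    exact conj_mem_cj hn
  rw [eq_bot_iff, ← h]
  refine Lib.Cores.le_pPrimeCore h3 ?_
  rw [Nat.coprime_comm]
  exact (Nat.Prime.coprime_iff_not_dvd Nat.prime_two).2 (odd_OO _)

/-- `O(G / Z) = 1` for a central 2-group `Z` -/
theorem pPrimeCore_quot {G' : Type*} [Group G'] [Finite G'] {f : G →* G'} (hf : Function.Surjective f)
    (hC : f.ker ≤ center G) (h2 : IsPGroup 2 f.ker) (h : pPrimeCore 2 G = ⊥) : pPrimeCore 2 G' = ⊥ := by
  have hn : ((pPrimeCore 2 G').comap f).Normal := (Lib.Cores.pPrimeCore_normal 2 (G := G')).comap f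
  have hZN : f.ker ≤ (pPrimeCore 2 G').comap f := by
    intro x hx
    rw [mem_comap, MonoidHom.mem_ker.1 hx]
    exact one_mem _
  have h1 := le_of_odd_relIndex hn hC hZN h2 (OO_top_eq_bot h) (by
    rw [relIndex_ker, Subgroup.map_comap_eq_self_of_surjective hf]
    have h3 := Lib.Cores.pPrimeCore_coprime (G := G') 2
    rw [Nat.coprime_comm] at h3
    exact (Nat.Prime.coprime_iff_not_dvd Nat.prime_two).1 h3)
  rw [eq_bot_iff]
  intro y hy
  obtain ⟨x, rfl⟩ := hf y
  exact mem_bot.2 (MonoidHom.mem_ker.1 (h1 hy))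

/-- central quotients -/
theorem TW.quot (h : TW K U) {G' : Type*} [Group G'] [Finite G'] {f : G →* G'} (hf : Function.Surjective f)
    (hC : f.ker ≤ center G) (h2 : IsPGroup 2 f.ker) (hz : zz K ∉ f.ker) :
    TW (K.map f) (imgU f (cls K) U) := by
  have hKC : ∀ L ∈ cls K, L ⊓ f.ker = ⊥ := by
    rintro _ ⟨g, rfl⟩
    refine CVW.inf_eq_bot h.cvw ⟨g, rfl⟩ fun h1 => hz ?_
    rw [h.cvw.hyp.zz_cj (self_mem_cls K)] at h1
    have h3 := (f.normal_ker).conj_mem _ h1 g⁻¹
    have h4 : g⁻¹ * (g * zz K * g⁻¹) * g⁻¹⁻¹ = zz K := by group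
    rwa [h4] at h3
  have h1 := CVW.imgc h.cvw hf hC hKC
  rw [img_cls hf] at h1
  refine ⟨h1, ?_, pPrimeCore_quot hf hC h2 h.odd⟩
  have h3 := map_normalClosure (K : Set G) f hf
  rw [h.gen, ← MonoidHom.range_eq_map, MonoidHom.range_eq_top.2 hf] at h3
  rw [h3]
  rfl

/-- **reduction to the simple case** -/
theorem tConc_of (hev : EvQ G) (hS : SimpleStmt.{u}) (h : TW K U) (ih : TLt.{u} (Nat.card G)) : TConc K := by
  haveI : Fact (Nat.Prime 2) := ⟨Nat.prime_two⟩
  have hK : K ∈ cls K := self_mem_cls K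
  by_contra hcon
  rw [TConc, not_or] at hcon
  obtain ⟨hz, hL⟩ := hcon
  push Not at hL
  obtain ⟨L, hL, hKL⟩ := hL
  -- `O_2(G)` is central
  have hcen : pCore 2 G ≤ center G := by
    have hPn : (pCore 2 G).Normal := Lib.Cores.pCore_normal 2
    have h1 : K ≤ centralizer (pCore 2 G : Set G) := by
      intro k hk
      rw [mem_centralizer_iff]
      intro n hn
      exact (h.cvw.hyp.lemma_one hK (h.cvw.two K hK) (Lib.Cores.pCore_isPGroup 2)
        (by rw [normalizer_eq_top_iff.2 hPn]; exact le_top) hz k hk n hn).symm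
    have h2 : centralizer (pCore 2 G : Set G) = ⊤ := by
      rw [eq_top_iff, ← h.gen]
      exact normalClosure_le_normal h1
    intro x hx
    rw [mem_center_iff]
    intro g
    have h3 : g ∈ centralizer (pCore 2 G : Set G) := by rw [h2]; exact mem_top g
    exact (mem_centralizer_iff.1 h3 x hx).symm
  by_cases hP : pCore 2 G = ⊥
  · obtain ⟨F, hF, hF2⟩ := exists_fsimp h.odd hP hev h.cvw h.gen
    exact hS G K U F ⟨h.cvw, hF, hF2, ih⟩ L hL hKL
  · -- a central quotient
    haveI hPn : (pCore 2 G).Normal := Lib.Cores.pCore_normal 2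
    have hf : Function.Surjective (QuotientGroup.mk' (pCore 2 G)) := QuotientGroup.mk'_surjective _
    have hker : (QuotientGroup.mk' (pCore 2 G)).ker = pCore 2 G := QuotientGroup.ker_mk' _
    have hlt : Nat.card (G ⧸ pCore 2 G) < Nat.card G := by
      rw [card_eq_card_quotient_mul_card_subgroup (pCore 2 G)]
      have h3 : 1 < Nat.card (pCore 2 G) := by
        rw [← not_le]
        exact fun h4 => hP (card_le_one_iff_eq_bot _ |>.1 h4)
      have h4 : 0 < Nat.card (G ⧸ pCore 2 G) := Nat.card_pos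
      nlinarith
    have hw := h.quot hf (by rw [hker]; exact hcen) (by rw [hker]; exact Lib.Cores.pCore_isPGroup 2)
      (by rw [hker]; exact hz)
    have hinf : K ⊓ (QuotientGroup.mk' (pCore 2 G)).ker = ⊥ := by
      rw [hker]
      exact CVW.inf_eq_bot h.cvw hK hz
    rcases ih _ (K.map (QuotientGroup.mk' (pCore 2 G))) _ hlt hw with h3 | h3
    · apply hz
      have h4 : zz (K.map (QuotientGroup.mk' (pCore 2 G))) = QuotientGroup.mk' (pCore 2 G) (zz K) :=
        QuoCen.zz_map_of_inf h.cvw.hyp hK hinf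
      rw [h4] at h3
      have h5 : (pCore 2 (G ⧸ pCore 2 G)).comap (QuotientGroup.mk' (pCore 2 G)) ≤ pCore 2 G := by
        refine Lib.Cores.le_pCore ((Lib.Cores.pCore_normal 2).comap _) ?_
        refine (Lib.Cores.pCore_isPGroup 2).comap_of_ker_isPGroup _ ?_
        rw [hker]
        exact Lib.Cores.pCore_isPGroup 2
      exact h5 h3
    · obtain ⟨g, rfl⟩ := hL
      refine h3 _ ?_ (CVW.orth_map h.cvw hK hinf hKL)
      exact ⟨QuotientGroup.mk' (pCore 2 G) g, by rw [cj_map]⟩

end

/-- **T from the simple case** -/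
theorem tLt (hev : ∀ (G : Type u) [Group G] [Finite G], EvQ G) (hS : SimpleStmt.{u}) : ∀ n, TLt.{u} n := by
  intro n
  induction n with
  | zero => intro G _ _ K U h; omega
  | succ n ih =>
    intro G _ _ K U hlt h
    rcases Nat.lt_succ_iff_lt_or_eq.1 hlt with h1 | h1
    · exact ih G K U h1 h
    · refine tConc_of (hev G) hS h ?_
      rw [h1]
      exact ih

end Cfsg.Agent.Cit.Nil.CVT
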