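import Cfsg.Agent.Cit.Nil.LO.MainTwo
import Cfsg.Agent.Cit.Nil.LO.AltG
import Cfsg.Agent.Cit.Nil.LO.HeQ
import Cfsg.Agent.Cit.Nil.LO.LThreeQ
import Cfsg.Agent.Cit.Nil.CVT.Red

/-!
# (6b)(CV): THEOREM KL in the simple case (helper818)

`false_of_core` : `F*(G)` simple, members are 2-groups, `K`, `L` different commuting members, an involution `t` with
`O(C(t)) ≠ 1` : impossible.
`kl` : the same in the world `CVW (cls K) U`, `FSimp F` (socket KLStmt of helper542).

Inputs: `TStmt` (S1310), `ChartOut`, `ChartOut2` (piece (C)), S1311.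
-/

set_option autoImplicit false
set_option linter.style.haveILetI false

namespace Cfsg.Agent.Cit.Nil.CVT.KLOf

open Subgroup Cfsg Cit Tau CV CV1
open Cfsg.Agent.Cit.Nil.ROne (FSimp)
open Cfsg.Agent.Cit.Nil.LO (ChartOut ChartOut2 NQ)

universe u

/-- **(KL)**, `F*(G)` simple -/
theorem false_of_core (hT : TStmt.{u}) (hC : ChartOut.{u}) (hC2 : ChartOut2.{u}) {G : Type u} [Group G] [Finite G]
    (fs : AssemblyNil.FS G) (h1311 : AssemblyNil.St1311 G) {Om : Set (Subgroup G)} (w : NQ Om) {K L : Subgroup G}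
    (hK : K ∈ Om) (hL : L ∈ Om) (hc : ∀ x ∈ K, ∀ y ∈ L, x * y = y * x)
    {t : G} (ht : orderOf t = 2) (hO : centralizerPPrimeCore 2 t ≠ ⊥) : False := by
  rcases h1311 t ht hO with h | ⟨n, -, hn, ⟨e⟩⟩ | h | h
  · exact LO.false_of_lie_orth hT hC hC2 (Lib.GenFitting.genFitting_normal (G := G)) fs.simple fs.na
      (End.centralizer_fstar fs.simple fs.na) w hK hL hc h
      (by rw [← pow_two, ← ht]; exact pow_orderOf_eq_one t) hO
  · exact LO.AltG.alt_false' w.hyp hK fs.simple fs.na hn e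
  · exact LO.LThreeQ.lthree_false w.hyp w.two hK fs h
  · exact LO.HeQ.he_false_q w hK fs h

/-- `F` is `F*(G)` -/
theorem fstar_eq {G : Type u} [Group G] [Finite G] {F : Subgroup G} (f : FSimp F) :
    generalizedFittingSubgroup G = F :=
  FixBN.BTheorem.genFitting_eq f.nor f.sim
    (fun hc => f.na fun x hx y hy => congrArg Subtype.val (hc.is_comm.comm (⟨x, hx⟩ : F) ⟨y, hy⟩)) f.cen

theorem fs_of {G : Type u} [Group G] [Finite G] {F : Subgroup G} (f : FSimp F) (h2 : 2 ∣ Nat.card F) :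
    AssemblyNil.FS G := by
  have h := fstar_eq f
  refine ⟨?_, ?_, ?_⟩ <;> rw [h]
  · exact f.sim
  · exact fun hc => f.na fun x hx y hy => congrArg Subtype.val (hc.is_comm.comm (⟨x, hx⟩ : F) ⟨y, hy⟩)
  · exact h2

/-- **KLStmt** (helper542) -/
theorem kl (hT : TStmt.{u}) (hC : ChartOut.{u}) (hC2 : ChartOut2.{u})
    (h1311 : ∀ (G : Type u) [Group G] [Finite G], AssemblyNil.FS G → AssemblyNil.St1311 G) :
    ∀ (G : Type u) [Group G] [Finite G] (K : Subgroup G) (U : Subgroup G → Subgroup G) (F : Subgroup G),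
      CVW (cls K) U → FSimp F → 2 ∣ Nat.card F → (∃ t : G, orderOf t = 2 ∧ centralizerPPrimeCore 2 t ≠ ⊥) →
      ∀ L ∈ cls K, ¬ Orth K L := by
  intro G _ _ K U F w f h2 ht L hL hKL
  obtain ⟨t, ht, hO⟩ := ht
  have fs := fs_of f h2
  exact false_of_core hT hC hC2 fs (h1311 G fs) ⟨w.hyp, w.two⟩ (self_mem_cls K) hL hKL.2 ht hO

end Cfsg.Agent.Cit.Nil.CVT.KLOf
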