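import Cfsg.Agent.Cit.Nil.CVT.Un
import Cfsg.Agent.Cit.Nil.CVT.Red
import Cfsg.Agent.Cit.Nil.CV1.Cor
import Cfsg.Agent.Cit.Nil.CVA2.Lift

/-!
# (6b)(CV), the frame, the simple case: rank one

* `rw_of_rkOne` : rank one: the world `RW` of `CV1`;
* `not_orth_of_one` : `One` ==> no orthogonal members;
* `pPrimeCore_of_fsimp`, `centralizer_ne_top` : `O(G) = 1`, `Z(G) = 1` in the simple case;
* `SC.of_rkOne` : rank one: no orthogonal members.
-/

set_option autoImplicit false
set_option linter.style.haveILetI false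
set_option linter.unusedSectionVars false

namespace Cfsg.Agent.Cit.Nil.CVT

open Subgroup Cfsg Cit Tau CV CV1 Cfsg.Agent.Cit.Comp
open Cfsg.Agent.Cit.Nil.ROne (FSimp)

universe u

section

variable {G : Type u} [Group G] [Finite G] {K L F : Subgroup G} {U : Subgroup G → Subgroup G}
  {Om : Set (Subgroup G)}

/-- rank one: the world of `CV1` -/
theorem rw_of_rkOne (w : CVW Om U) (hr : ∀ A, IsA Om U A → RkOne Om U A) : RW Om U := by
  refine ⟨w, ?_⟩
  intro K hK L hL v hv x hx hv4 hx4 hc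
  obtain ⟨A, hA, hvA, hxA⟩ := CVA2.exists_common w hK hv hv4 hL hx hx4 hc
  have h1 := hr A hA v hvA x hxA
  by_cases h0 : al Om U v x = 0
  · exact Or.inr (w.comm_of_al_zero hA hK hv hv4 hvA.1 hL hx hx4 hxA.1 h0).2
  · have h2 : al Om U v x = 2 := by
      by_contra h2
      exact h1 ⟨h0, h2⟩
    by_cases hKL : K = L
    · exact Or.inl hKL
    · refine Or.inr fun a ha b hb => w.comm_of_zz_eq hK hL ?_ hKL ha hb
      rw [← w.sq_eq hK hv hv4, ← w.sq_eq hL hx hx4]
      rcases w.al_two hA hvA hxA h2 with rfl | rfl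
      · rfl
      · have h3 : v * v * (v * v) = 1 := by
          have h4 := pow_orderOf_eq_one v
          rw [hv4] at h4
          rw [← h4]
          simp only [pow_succ, pow_zero, one_mul, mul_assoc]
        rw [← mul_inv_rev]
        exact eq_inv_of_mul_eq_one_left h3

/-- no orthogonal members in a world `One` -/
theorem not_orth_of_one (w : CVW Om U) (ho : One Om) (hK : K ∈ Om) (hL : L ∈ Om) : ¬ Orth K L := by
  rintro ⟨hne, hc⟩
  have h1 : IsPGroup 2 (K ⊔ L : Subgroup G) := by
    refine (w.two K hK).to_sup_of_normal_right' (w.two L hL) ?_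
    intro k hk
    rw [mem_normalizer_iff]
    intro y
    constructor
    · intro hy
      have h2 : k * y * k⁻¹ = y := by rw [hc k hk y hy]; group
      rwa [h2]
    · intro hy
      have h2 : k⁻¹ * (k * y * k⁻¹) * k = k * y * k⁻¹ := by
        rw [mul_assoc, ← hc k hk _ hy]
        group
      have h3 : k⁻¹ * (k * y * k⁻¹) * k = y := by group
      rw [← h3, h2]
      exact hy
  exact hne (ho.one _ h1 K ⟨hK, by rw [relIndex_eq_one.2 le_sup_left]; decide⟩ L
    ⟨hL, by rw [relIndex_eq_one.2 le_sup_right]; decide⟩)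

/-- `O(G) = 1` -/
theorem pPrimeCore_of_fsimp (f : FSimp F) (h2 : 2 ∣ Nat.card F) : pPrimeCore 2 G = ⊥ := by
  by_contra hne
  have h1 : F ≤ pPrimeCore 2 G := by
    refine simple_le f.nor f.sim f.cen hne ?_
    rw [normalizer_eq_top_iff.2 (Lib.Cores.pPrimeCore_normal 2)]
    exact le_top
  have h3 := (Nat.Prime.coprime_iff_not_dvd Nat.prime_two).1
    ((Lib.Cores.pPrimeCore_coprime (G := G) 2).symm)
  exact h3 (h2.trans (card_dvd_of_le h1))

theorem centralizer_ne_top (f : FSimp F) {e : G} (he : e ≠ 1) : centralizer {e} ≠ ⊤ := by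
  intro h
  apply he
  rw [← mem_bot, ← f.cen, mem_centralizer_iff]
  intro x _
  have h1 : x ∈ centralizer ({e} : Set G) := by rw [h]; exact mem_top x
  exact (mem_centralizer_singleton_iff.1 h1)

/-- **rank one** -/
theorem SC.of_rkOne (s : SC K U F) (hR : R1Stmt.{u}) (hr : ∀ A, IsA (cls K) U A → RkOne (cls K) U A)
    (hL : L ∈ cls K) : ¬ Orth K L := by
  have r := rw_of_rkOne s.cvw hr
  have hO := OO_top_eq_bot (pPrimeCore_of_fsimp s.f s.even)
  have ho := r.one_of_r1 hO s.f.nor s.f.sim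
    (fun hc => s.f.na fun x hx y hy => congrArg Subtype.val (hc.is_comm.comm (⟨x, hx⟩ : F) ⟨y, hy⟩)) s.f.cen
    (hR G _ _ hO r)
  exact not_orth_of_one s.cvw ho (self_mem_cls K) hL

end

end Cfsg.Agent.Cit.Nil.CVT
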