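import Cfsg.Agent.Cit.Nil.CVT.Red
import Cfsg.Agent.Cit.Nil.CV.SecTwo
import Cfsg.Agent.PLocal.SubnormalCore
import Cfsg.Agent.Lib.PComponents

/-!
# (6b)(CV), the frame: the subnormal closure `X` of a member `K` in `H`, and the block `K ^ X`

* `SNC H K X` : `X` is the smallest subnormal subgroup of `H` containing `K`; `exists_snc`, `SNC.cj'`, `SNC.norm`,
  `SNC.gen`, `SNC.odd`, `SNC.two`;
* `SNC.lk` : `L ≤ H`, `y ∈ L`, `x ∈ cj y K`, `cj x L = K` imply `L ≤ X`;
* `CVW.third` : linked roots (with a symmetric bond) satisfy the condition of `SNC.lk`;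
* `BL K X` : the block; `SNC.tw` : `X` with the class of `K` is a world `TW`;
* `SNC.cases` : `zz K ∈ O_2(H)` or two members of the block do not commute.
-/

set_option autoImplicit false
set_option linter.style.haveILetI false
set_option linter.unusedSectionVars false

namespace Cfsg.Agent.Cit.Nil.CVT

open Subgroup Cfsg Cit Tau CV CV1 Cfsg.Agent.Cit.Comp

universe u

section snc

variable {G : Type*} [Group G] {H K L M N X Y : Subgroup G} {g x y : G}

/-- `X` is the subnormal closure of `K` in `H` -/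
structure SNC (H K X : Subgroup G) : Prop where
  KX : K ≤ X
  XH : X ≤ H
  sn : (X.subgroupOf H).IsSubnormal
  min : ∀ Y : Subgroup G, Y ≤ H → (Y.subgroupOf H).IsSubnormal → K ≤ Y → X ≤ Y

theorem exists_snc [Finite G] (hKH : K ≤ H) : ∃ X, SNC H K X := by
  let S : Set (Subgroup G) := {Y | Y ≤ H ∧ (Y.subgroupOf H).IsSubnormal ∧ K ≤ Y}
  have hS : S.Nonempty := ⟨H, le_rfl, by rw [subgroupOf_self]; exact IsSubnormal.top, hKH⟩
  obtain ⟨X, hX⟩ := (Set.toFinite S).exists_minimal hS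
  refine ⟨X, hX.prop.2.2, hX.prop.1, hX.prop.2.1, fun Y hY hYs hKY => ?_⟩
  have h1 : X ⊓ Y ∈ S := by
    refine ⟨inf_le_left.trans hX.prop.1, ?_, le_inf hX.prop.2.2 hKY⟩
    have h2 : (X ⊓ Y).subgroupOf H = X.subgroupOf H ⊓ Y.subgroupOf H := comap_inf _ _ _
    rw [h2]
    exact hX.prop.2.1.inf hYs
  exact (hX.le_of_le h1 inf_le_left).trans inf_le_right

theorem SNC.unique (h : SNC H K X) (h' : SNC H K Y) : X = Y :=
  le_antisymm (h.min Y h'.XH h'.sn h'.KX) (h'.min X h.XH h.sn h.KX)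

theorem isSubnormal_cj {H J : Subgroup G} {g : G} (hs : (J.subgroupOf H).IsSubnormal) :
    ((cj g J).subgroupOf (cj g H)).IsSubnormal := by
  let e : H ≃* (cj g H : Subgroup G) := H.equivMapOfInjective (MulAut.conj g).toMonoidHom (MulAut.conj g).injective
  have h1 := hs.map (f := e.toMonoidHom) e.surjective
  convert h1 using 1
  ext x
  rw [Subgroup.mem_subgroupOf, Subgroup.mem_map]
  constructor
  · intro hx
    have hx' : g⁻¹ * (x : G) * g ∈ J := mem_cj.1 hx
    have hxH : g⁻¹ * (x : G) * g ∈ H := mem_cj.1 x.2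
    refine ⟨⟨_, hxH⟩, hx', Subtype.ext ?_⟩
    change g * (g⁻¹ * (x : G) * g) * g⁻¹ = x
    group
  · rintro ⟨y, hy, rfl⟩
    change g * (y : G) * g⁻¹ ∈ cj g J
    exact conj_mem_cj hy

theorem SNC.cj' (h : SNC H K X) (g : G) : SNC (cj g H) (cj g K) (cj g X) := by
  refine ⟨cj_mono g h.KX, cj_mono g h.XH, isSubnormal_cj h.sn, fun Y hY hYs hKY => ?_⟩
  have h1 : X ≤ cj g⁻¹ Y := by
    refine h.min _ ?_ ?_ ?_
    · have := cj_mono g⁻¹ hY
      rwa [cj_inv_cj] at this
    · have := isSubnormal_cj (g := g⁻¹) hYs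
      rwa [cj_inv_cj] at this
    · have := cj_mono g⁻¹ hKY
      rwa [cj_inv_cj] at this
  have h2 := cj_mono g h1
  rwa [cj_cj_inv] at h2

theorem SNC.cj_of_norm (h : SNC H K X) (hg : g ∈ normalizer (H : Set G)) : SNC H (cj g K) (cj g X) := by
  have h1 := h.cj' g
  rwa [mem_normalizer_iff_cj.1 hg] at h1

/-- the stabiliser of `K` normalises `X` -/
theorem SNC.norm (h : SNC H K X) (hg : g ∈ normalizer (H : Set G)) (hK : g ∈ normalizer (K : Set G)) :
    g ∈ normalizer (X : Set G) := by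
  have h1 := h.cj_of_norm hg
  rw [mem_normalizer_iff_cj.1 hK] at h1
  exact mem_normalizer_iff_cj.2 (h1.unique h)

/-- `X` is the subnormal closure of its conjugates of `K` -/
theorem SNC.of_mem (h : SNC H K X) (hg : g ∈ X) : SNC H (cj g K) X := by
  have h1 := h.cj_of_norm (le_normalizer (h.XH hg))
  rwa [mem_normalizer_iff_cj.1 (le_normalizer hg)] at h1

/-- `K` generates `X` as a normal subgroup -/
theorem SNC.gen (h : SNC H K X) : normalClosure ((K.subgroupOf X : Subgroup X) : Set X) = ⊤ := by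
  obtain ⟨N, hN⟩ : ∃ N, N = normalClosure ((K.subgroupOf X : Subgroup X) : Set X) := ⟨_, rfl⟩
  rw [← hN]
  have hNn : N.Normal := by rw [hN]; exact normalClosure_normal
  have hNX : N.map X.subtype ≤ X := map_subtype_le N
  have h0 : (N.map X.subtype).subgroupOf X = N := by
    rw [subgroupOf, comap_map_eq_self_of_injective X.subtype_injective]
  have h1 : X ≤ N.map X.subtype := by
    refine h.min _ (hNX.trans h.XH) ?_ ?_
    · refine IsSubnormal.step _ _ (comap_mono hNX) h.sn ?_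
      refine (normal_subgroupOf_iff_le_normalizer (comap_mono hNX)).2 ?_
      intro x hx
      have h3 : X ≤ normalizer (N.map X.subtype : Set G) := by
        rw [← normal_subgroupOf_iff_le_normalizer hNX, h0]
        exact hNn
      exact le_normalizer_comap H.subtype (h3 hx)
    · have h4 : K.subgroupOf X ≤ N := by
        rw [hN]
        exact le_normalClosure
      have h5 := map_mono (f := X.subtype) h4
      rwa [map_subgroupOf_eq_of_le h.KX] at h5
  rw [eq_top_iff]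
  intro x _
  obtain ⟨y, hy, hyx⟩ := h1 x.2
  have h2 : y = x := Subtype.ext hyx
  rwa [← h2]

/-- the smallest subnormal subgroup: members linked to `K` -/
theorem SNC.lk (h : SNC H K X) (hLH : L ≤ H) (hy : y ∈ L) (hx : x ∈ cj y K) (hxL : cj x L = K) : L ≤ X := by
  -- for all subnormal `N` of `H`
  have key : ∀ N : Subgroup H, N.IsSubnormal → K ≤ N.map H.subtype → L ≤ N.map H.subtype := by
    intro N hN
    induction hN with
    | top =>
      intro _ l hl
      exact ⟨⟨l, hLH hl⟩, mem_top _, rfl⟩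
    | step N M hNM hM hn ih =>
      intro hK
      have hLM := ih (hK.trans (map_mono hNM))
      have hMN : M.map H.subtype ≤ normalizer (N.map H.subtype : Set G) := by
        rw [normal_subgroupOf_iff_le_normalizer hNM] at hn
        exact (map_mono hn).trans (le_normalizer_map H.subtype)
      have h1 : cj y K ≤ N.map H.subtype := by
        have h2 := cj_mono y hK
        rwa [mem_normalizer_iff_cj.1 (hMN (hLM hy))] at h2
      have h2 : x ∈ N.map H.subtype := h1 hx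
      have h3 : cj x L ≤ cj x (N.map H.subtype) := by
        rw [hxL, mem_normalizer_iff_cj.1 (le_normalizer h2)]
        exact hK
      exact cj_le_cj.1 h3
  have h1 := key _ h.sn (by rw [map_subgroupOf_eq_of_le h.XH]; exact h.KX)
  rwa [map_subgroupOf_eq_of_le h.XH] at h1

variable [Finite G]

theorem SNC.odd (h : SNC H K X) (hH : pPrimeCore 2 H = ⊥) : pPrimeCore 2 X = ⊥ := by
  -- transport along `X ≃* X.subgroupOf H`
  have h1 := Lib.PComponents.map_pPrimeCore_le_of_isSubnormal (p := 2) h.sn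
  rw [hH, le_bot_iff, Subgroup.map_eq_bot_iff_of_injective _ (Subgroup.subtype_injective _)] at h1
  have h2 := Lib.Cores.map_equiv_pPrimeCore (subgroupOfEquivOfLe h.XH) 2
  rw [h1, Subgroup.map_bot] at h2
  exact h2.symm

theorem SNC.two (h : SNC H K X) : (pCore 2 X).map X.subtype ≤ (pCore 2 H).map H.subtype := by
  have h1 := PLocal.SubnormalCore.map_subtype_pCore_le (p := 2) h.sn
  have h2 := Lib.Cores.map_equiv_pCore (subgroupOfEquivOfLe h.XH) 2
  rintro _ ⟨x, hx, rfl⟩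
  rw [← h2] at hx
  obtain ⟨y, hy, rfl⟩ := hx
  exact ⟨_, h1 ⟨y, hy, rfl⟩, rfl⟩

end snc

/-! ### Linked roots -/

section third

variable {G : Type*} [Group G] [Finite G] {Om : Set (Subgroup G)} {U : Subgroup G → Subgroup G} {A H K L M N X : Subgroup G}
  {g v w x y : G}

/-- linked roots with a symmetric bond: `M = cj y K` is linked to `L` and moves it to `K` -/
theorem third (h : CVW Om U) (hA : IsA Om U A) (hK : K ∈ Om) (hvK : v ∈ U K) (hv : v ∈ RR Om U A) (hL : L ∈ Om)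
    (hwL : w ∈ U L) (hw : w ∈ RR Om U A) (hs : al Om U v w = al Om U w v) (h0 : al Om U v w ≠ 0)
    (h2 : al Om U v w ≠ 2) : ∃ y ∈ L, ∃ x ∈ cj y K, cj x L = K := by
  obtain ⟨y, hy, hyX⟩ := h.exists_y hL
  have hyA : y ∈ normalizer (A : Set G) := h.K_le_norm hA hL hwL hw.2.1 hw.1 hy
  obtain ⟨x₀, hx₀, hx₀X⟩ := h.exists_y hK
  have e1 : y * v * y⁻¹ = v * pw w (-al Om U w v) := h.al_spec hA hL hwL hw.2.1 hw.1 hy hyX hv.1
  have hv' : y * v * y⁻¹ ∈ RR Om U A := h.RR_conj hyA hv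
  have hyKX : y * x₀ * y⁻¹ ∉ Tau.XX U (cj y K) := fun hh => hx₀X ((conj_mem_XX (h.vch.cj K hK y)).mp hh)
  have e2 : y * x₀ * y⁻¹ * w * (y * x₀ * y⁻¹)⁻¹ = w * pw (y * v * y⁻¹) (-al Om U (y * v * y⁻¹) w) :=
    h.al_spec hA (h.hyp.conj K hK y) (h.vch.conj_mem hK hvK y) hv'.2.1 hv'.1 (conj_mem_cj hx₀) hyKX hw.1
  -- `al (y v y⁻¹) w = - al v w`
  have e3 : al Om U (y * v * y⁻¹) w = -al Om U v w := by
    have h3 : y * w⁻¹ * y⁻¹ = w := by
      have h4 := h.y_inv hL hy hyX hwL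
      calc y * w⁻¹ * y⁻¹ = (y * w * y⁻¹)⁻¹ := by group
        _ = w := by rw [h4, inv_inv]
    have h5 := h.al_conj hA hyA hv (A.inv_mem hw.1)
    rw [h3, h.al_inv hA hv hw.1] at h5
    exact h5
  rw [e3, neg_neg] at e2
  obtain ⟨a, ha⟩ : ∃ a, a = al Om U v w := ⟨_, rfl⟩
  rw [← hs] at e1
  rw [← ha] at e1 e2 h0 h2
  have hc : Commute v w := h.comm hA hv.1 hw.1
  have hcp : ∀ m n, Commute (pw v m) (pw w n) := fun m n => hc.pow_pow _ _
  -- the image of `w`
  have key : y * x₀ * y⁻¹ * w * (y * x₀ * y⁻¹)⁻¹ = pw v a := by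
    rw [e2, e1]
    have h6 : pw (v * pw w (-a)) a = pw v a * pw (pw w (-a)) a := by
      exact (show Commute v (pw w (-a)) from hc.pow_right _).mul_pow _
    have h7 : pw (pw w (-a)) a = w⁻¹ := by
      have h8 : a = 1 ∨ a = -1 := by
        revert h0 h2
        clear * -
        revert a
        decide
      rcases h8 with rfl | rfl
      · rw [pw_one, pw_neg_one hw.2.1]
      · rw [neg_neg, pw_one, pw_neg_one hw.2.1]
    rw [h6, h7]
    have h9 : Commute w (pw v a) := (hc.symm).pow_right _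
    rw [← mul_assoc, h9.eq, mul_inv_cancel_right]
  refine ⟨y, hy, y * x₀ * y⁻¹, conj_mem_cj hx₀, ?_⟩
  have hm : y * x₀ * y⁻¹ * w * (y * x₀ * y⁻¹)⁻¹ ∈ U (cj (y * x₀ * y⁻¹) L) := h.vch.conj_mem hL hwL _
  refine h.eq_of_mem (h.hyp.conj L hL _) hK hm ?_ (orderOf_conj_four hw.2.1 _)
  rw [key]
  exact pw_mem hvK a

end third

/-! ### The block -/

section block

variable {G : Type u} [Group G] [Finite G] {Om : Set (Subgroup G)} {U : Subgroup G → Subgroup G} {A H K L M N X : Subgroup G}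
  {g v w x y : G}

/-- the block of `K` in `X` -/
def BL (K X : Subgroup G) : Set (Subgroup G) := {L | ∃ g ∈ X, L = cj g K}

theorem orth_cj (h : Orth K L) (g : G) : Orth (cj g K) (cj g L) := by
  refine ⟨fun hh => h.1 (cj_inj.1 hh), ?_⟩
  rintro _ ⟨x, hx, rfl⟩ _ ⟨y, hy, rfl⟩
  have := h.2 x hx y hy
  simp only [MulEquiv.coe_toMonoidHom, ← map_mul, this]

theorem self_mem_BL : K ∈ BL K X := ⟨1, X.one_mem, (cj_one K).symm⟩

theorem BL_le (hKX : K ≤ X) (hL : L ∈ BL K X) : L ≤ X := by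
  obtain ⟨g, hg, rfl⟩ := hL
  have h1 := cj_mono g hKX
  rwa [mem_normalizer_iff_cj.1 (le_normalizer hg)] at h1

theorem BL_mem (h : CVW Om U) (hK : K ∈ Om) (hL : L ∈ BL K X) : L ∈ Om := by
  obtain ⟨g, -, rfl⟩ := hL
  exact h.hyp.conj K hK g

theorem subgroupOf_mem_cls (hKX : K ≤ X) (hL : L ∈ BL K X) : L.subgroupOf X ∈ Cit.cls (K.subgroupOf X) := by
  obtain ⟨g, hg, rfl⟩ := hL
  exact cj_mem_cls_subgroupOf hKX hg

theorem SNC.of_BL (h : SNC H K X) (hL : L ∈ BL K X) : SNC H L X := by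
  obtain ⟨g, hg, rfl⟩ := hL
  exact h.of_mem hg

/-- linked members of `H` belong to the block -/
theorem SNC.lk_BL (h : SNC H K X) (hM : M ∈ BL K X) (hLH : L ≤ H) (hy : y ∈ L) (hx : x ∈ cj y M) (hxL : cj x L = M) :
    L ∈ BL K X := by
  have hLX := (h.of_BL hM).lk hLH hy hx hxL
  have h1 : cj y M ≤ X := by
    have h2 := cj_mono y (BL_le h.KX hM)
    rwa [mem_normalizer_iff_cj.1 (le_normalizer (hLX hy))] at h2
  obtain ⟨g, hg, rfl⟩ := hM
  refine ⟨x⁻¹ * g, X.mul_mem (X.inv_mem (h1 hx)) hg, ?_⟩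
  rw [cj_mul, ← hxL, cj_inv_cj]

/-- an element normalising `H` and conjugating `K` to a member of the block preserves the block -/
theorem SNC.cj_BL (h : SNC H K X) (hg : g ∈ normalizer (H : Set G)) (hL : L ∈ BL K X) (hgL : cj g L ∈ BL K X)
    (hM : M ∈ BL K X) : cj g M ∈ BL K X := by
  have h1 : cj g X = X := by
    have h2 := (h.of_BL hL).cj_of_norm hg
    exact h2.unique (h.of_BL hgL)
  obtain ⟨a, ha, rfl⟩ := hL
  obtain ⟨b, hb, hgb⟩ := hgL
  obtain ⟨c, hc, rfl⟩ := hM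
  -- `g c K = (g c a⁻¹ g⁻¹) g a K`
  refine ⟨g * (c * a⁻¹) * g⁻¹ * b, X.mul_mem ?_ hb, ?_⟩
  · rw [← h1]
    exact conj_mem_cj (X.mul_mem hc (X.inv_mem ha))
  · rw [cj_mul (g * (c * a⁻¹) * g⁻¹) b, ← hgb, ← cj_mul, ← cj_mul, ← cj_mul]
    congr 1
    group

/-- the world on `X` -/
theorem SNC.tw (h : SNC H K X) (w : CVW Om U) (hK : K ∈ Om) (hH : pPrimeCore 2 H = ⊥) :
    TW (K.subgroupOf X) (uH X U) :=
  ⟨CVW.cls_restr w hK h.KX, h.gen, h.odd hH⟩

/-- **the block**: `zz K ∈ O_2(H)` or the members of the block do not commute -/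
theorem SNC.cases (h : SNC H K X) (w : CVW Om U) (hK : K ∈ Om) (hH : pPrimeCore 2 H = ⊥)
    (ih : TLt.{u} (Nat.card G)) (hX : X ≠ ⊤) :
    zz K ∈ (pCore 2 X).map X.subtype ∨ ∀ M ∈ BL K X, ∀ N ∈ BL K X, ¬ Orth M N := by
  have hcard : Nat.card X < Nat.card G := by
    rw [← card_top (G := G)]
    have h2 : (X : Set G) ⊂ ((⊤ : Subgroup G) : Set G) := by
      rw [Set.ssubset_def]
      refine ⟨fun x _ => mem_top x, fun hh => hX ?_⟩
      rw [eq_top_iff]
      exact hh
    exact Set.Finite.card_lt_card (Set.toFinite _) h2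
  have hKX : (K.subgroupOf X).map X.subtype = K := map_subgroupOf_eq_of_le h.KX
  rcases ih X _ _ hcard (h.tw w hK hH) with h1 | h1
  · left
    refine ⟨_, h1, ?_⟩
    have h2 : ((zz (K.subgroupOf X) : X) : G) = zz ((K.subgroupOf X).map X.subtype) := by
      have h3 := (CVW.restr w X).hyp.orderOf_zz (subgroupOf_mem_restr hK h.KX)
      refine w.hyp.uniq _ (by rw [hKX]; exact hK) _ ?_ ?_
      · exact ⟨_, (CVW.restr w X).hyp.zz_mem (subgroupOf_mem_restr hK h.KX), rfl⟩
      · rw [orderOf_coe]; exact h3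
    rw [hKX] at h2
    exact h2
  · right
    rintro M hM N hN hMN
    obtain ⟨a, ha, rfl⟩ := id hM
    -- conjugate `M` to `K`
    have hNX := BL_le h.KX hN
    have h3 : Orth (K.subgroupOf X) ((cj a⁻¹ N).subgroupOf X) := by
      have h4 : Orth K (cj a⁻¹ N) := by
        have h5 := orth_cj hMN a⁻¹
        rwa [cj_inv_cj] at h5
      have h6 : cj a⁻¹ N ≤ X := by
        have h2 := cj_mono a⁻¹ hNX
        rwa [mem_normalizer_iff_cj.1 (le_normalizer (X.inv_mem ha))] at h2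
      refine ⟨fun h7 => h4.1 ?_, fun x hx y hy => Subtype.ext (h4.2 x hx y hy)⟩
      rw [← map_subgroupOf_eq_of_le h.KX, h7, map_subgroupOf_eq_of_le h6]
    refine h1 _ ?_ h3
    obtain ⟨b, hb, rfl⟩ := hN
    rw [← cj_mul]
    exact cj_mem_cls_subgroupOf h.KX (X.mul_mem (X.inv_mem ha) hb)

end block

end Cfsg.Agent.Cit.Nil.CVT
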