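import Cfsg.Agent.Cit.Nil.CVT.RkThree
import Cfsg.Agent.Cit.Nil.CVT.IndOf
import Cfsg.Agent.Cit.Nil.CVT.Free
import Cfsg.Agent.Cit.Nil.CVT.RkOne

/-!
# (6b)(CV), the frame: the simple case

* `KLStmt` : the simple case if the centralisers of involutions are not core-free (`KLOf.kl`);
* `A2Stmt` : the simple case, core-free, if all components are of type `A2`;
* `simpleStmt_of` : `SimpleStmt` from `KLStmt`, `A2Stmt`, `R1Stmt`, `ExStmt`, S1174 and Bender's theorem;
* `cvFree_top` : `CVFree`.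
-/

set_option autoImplicit false
set_option linter.style.haveILetI false
set_option linter.unusedSectionVars false

namespace Cfsg.Agent.Cit.Nil.CVT

open Subgroup Cfsg Cit Tau CV CV1 Cfsg.Agent.Cit.Comp
open Cfsg.Agent.Cit.Nil.ROne (FSimp)

universe u

/-- **the simple case, not core-free** (`KLOf.kl`) -/
def KLStmt : Prop := ∀ (G : Type u) [Group G] [Finite G] (K : Subgroup G) (U : Subgroup G → Subgroup G)
  (F : Subgroup G), CVW (cls K) U → FSimp F → 2 ∣ Nat.card F →
  (∃ t : G, orderOf t = 2 ∧ centralizerPPrimeCore 2 t ≠ ⊥) → ∀ L ∈ cls K, ¬ Orth K L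

/-- **the simple case, core-free, type `A2`** -/
def A2Stmt : Prop := ∀ (G : Type u) [Group G] [Finite G] (K : Subgroup G) (U : Subgroup G → Subgroup G)
  (F : Subgroup G), SC.{u} K U F → (∀ t : G, orderOf t = 2 → centralizerPPrimeCore 2 t = ⊥) →
  IndCV (cls K) U → (∀ A, IsA (cls K) U A → RkTwo (cls K) U A) → ∀ L ∈ cls K, ¬ Orth K L

/-- **the simple case** -/
theorem simpleStmt_of (hKL : KLStmt.{u}) (hA2 : A2Stmt.{u}) (hR : R1Stmt.{u}) (hEx : ExStmt.{u})
    (c74 : ∀ (G : Type u) [Group G] [Finite G] [IsSimpleGroup G], CloEnd.Crit1174 G)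
    (bend : ∀ (G : Type u) [Group G] [Finite G] [IsSimpleGroup G], CloEnd.Bend G) : SimpleStmt.{u} := by
  intro G _ _ K U F s L hL
  by_cases hcf : ∀ t : G, orderOf t = 2 → centralizerPPrimeCore 2 t = ⊥
  · have hi : IndCV (cls K) U := indCV_of hR hEx s.cvw hcf (fun e he => centralizer_ne_top s.f he) s.ih
    rcases s.trich with h | h | h
    · exact s.of_rkOne hR h hL
    · exact hA2 G K U F s hcf hi h L hL
    · haveI := s.f.sim
      exact (s.false_of_rkThree hi h (c74 F) (bend F)).elim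
  · push Not at hcf
    exact hKL G K U F s.cvw s.f s.even hcf L hL

/-- **leaf (CV), core-free** -/
theorem cvFree_top (hev : ∀ (G : Type u) [Group G] [Finite G], EvQ G) (hKL : KLStmt.{u}) (hA2 : A2Stmt.{u})
    (hR : R1Stmt.{u}) (hEx : ExStmt.{u})
    (c74 : ∀ (G : Type u) [Group G] [Finite G] [IsSimpleGroup G], CloEnd.Crit1174 G)
    (bend : ∀ (G : Type u) [Group G] [Finite G] [IsSimpleGroup G], CloEnd.Bend G) : CVFree.{u} :=
  cvFree_of hev (simpleStmt_of hKL hA2 hR hEx c74 bend)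

end Cfsg.Agent.Cit.Nil.CVT
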