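import Cfsg.Agent.Cit.Nil.CVT.Top
import Cfsg.Agent.Cit.Nil.CVT.ExTwo
import Cfsg.Agent.Cit.Nil.CVA2.A2
import Cfsg.Agent.Cit.Nil.CV1.MainR

/-!
# (6b)(CV), the frame: all pieces together

* `r1Stmt` : `R1Stmt` (rank one);
* `a2Stmt` : `A2Stmt`;
* `simpleStmt` : `SimpleStmt` from `KLStmt` and the external theorems;
* `cvFree` : `CVFree` from `KLStmt` and the external theorems.
-/

set_option autoImplicit false
set_option linter.style.haveILetI false
set_option linter.unusedSectionVars false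

namespace Cfsg.Agent.Cit.Nil.CVT

open Subgroup Cfsg Cit Tau CV CV1 Cfsg.Agent.Cit.Comp

universe u

/-- `R1Stmt` -/
theorem r1Stmt (hev : ∀ (G : Type u) [Group G] [Finite G], EvQ G) (gold : GoldStmt.{u}) : R1Stmt.{u} := by
  intro G _ _ Om U _ w
  exact r1_all hev (fun X _ _ h => by haveI := h; exact gold X) w ⊤

/-- `A2Stmt` -/
theorem a2Stmt (hev : ∀ (G : Type u) [Group G] [Finite G], EvQ G)
    (h1171 : ∀ (G : Type u) [Group G] [Finite G], OneF.H1171 G)
    (h1173 : ∀ (G : Type u) [Group G] [Finite G], oddCore G = ⊥ → OneF.H1173 G)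
    (c75 : ∀ (X : Type u) [Group X] [Finite X] [IsSimpleGroup X], CloEnd.Crit1175 X) (bend : BendStmt.{u}) :
    A2Stmt.{u} := by
  intro G _ _ K U F s hcf _ hr
  exact CVA2.a2_of h1173 h1171 hev c75 bend s hcf hr

/-- **the simple case**, from `KLStmt` and the external theorems -/
theorem simpleStmt (hKL : KLStmt.{u}) (hev : ∀ (G : Type u) [Group G] [Finite G], EvQ G) (gold : GoldStmt.{u})
    (bend : BendStmt.{u}) (h1171 : ∀ (G : Type u) [Group G] [Finite G], OneF.H1171 G)
    (h1173 : ∀ (G : Type u) [Group G] [Finite G], oddCore G = ⊥ → OneF.H1173 G)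
    (c74 : ∀ (X : Type u) [Group X] [Finite X] [IsSimpleGroup X], CloEnd.Crit1174 X)
    (c75 : ∀ (X : Type u) [Group X] [Finite X] [IsSimpleGroup X], CloEnd.Crit1175 X)
    (h0506 : NoHomo.S0506Stmt.{u}) : SimpleStmt.{u} :=
  simpleStmt_of hKL (a2Stmt hev h1171 h1173 c75 bend) (r1Stmt hev gold) (exStmt hev gold bend h0506) c74 bend

/-- **leaf (CV), core-free**, from `KLStmt` and the external theorems -/
theorem cvFree (hKL : KLStmt.{u}) (hev : ∀ (G : Type u) [Group G] [Finite G], EvQ G) (gold : GoldStmt.{u})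
    (bend : BendStmt.{u}) (h1171 : ∀ (G : Type u) [Group G] [Finite G], OneF.H1171 G)
    (h1173 : ∀ (G : Type u) [Group G] [Finite G], oddCore G = ⊥ → OneF.H1173 G)
    (c74 : ∀ (X : Type u) [Group X] [Finite X] [IsSimpleGroup X], CloEnd.Crit1174 X)
    (c75 : ∀ (X : Type u) [Group X] [Finite X] [IsSimpleGroup X], CloEnd.Crit1175 X)
    (h0506 : NoHomo.S0506Stmt.{u}) : CVFree.{u} :=
  cvFree_of hev (simpleStmt hKL hev gold bend h1171 h1173 c74 c75 h0506)

end Cfsg.Agent.Cit.Nil.CVT
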