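import Cfsg.Agent.Cit.Nil.CVT.Comp

/-!
# (6b)(CV), the frame: unlinked members over one involution

`Unl U K L` : `K` is not linked to `L`. The members of `H` unlinked to all members are a world `RW` of rank one. R1 for this
world: if `K ≠ K'` are unlinked members over one involution then every member commutes with `K` or is `K`, so
`K ≤ O_2(H)` (`un`).
-/

set_option autoImplicit false
set_option linter.style.haveILetI false
set_option linter.unusedSectionVars false

namespace Cfsg.Agent.Cit.Nil.CVT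

open Subgroup Cfsg Cit Tau CV CV1

universe u

/-- `K` is not linked to `L` -/
def Unl {G : Type*} [Group G] (U : Subgroup G → Subgroup G) (K L : Subgroup G) : Prop :=
  ∀ v ∈ U K, ∀ w ∈ U L, orderOf v = 4 → orderOf w = 4 → v * w = w * v → K = L ∨ ∀ x ∈ K, ∀ y ∈ L, x * y = y * x

/-- R1 for all worlds of rank one -/
def R1Stmt : Prop := ∀ (G : Type u) [Group G] [Finite G] (Om : Set (Subgroup G)) (U : Subgroup G → Subgroup G),
  OO (⊤ : Subgroup G) = ⊥ → RW Om U → R1 Om ⊤

variable {G : Type*} [Group G] [Finite G] {Om : Set (Subgroup G)} {U : Subgroup G → Subgroup G} {K L M : Subgroup G}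

/-- the unlinked members -/
def unl (Om : Set (Subgroup G)) (U : Subgroup G → Subgroup G) : Set (Subgroup G) :=
  {K | K ∈ Om ∧ ∀ L ∈ Om, Unl U K L}

theorem Unl.cj (w : CVW Om U) (hK : K ∈ Om) (hL : L ∈ Om) (h : Unl U K L) (g : G) :
    Unl U (Cit.cj g K) (Cit.cj g L) := by
  intro v hv x hx hv4 hx4 hc
  rw [w.vch.cj K hK] at hv
  rw [w.vch.cj L hL] at hx
  obtain ⟨v, hv, rfl⟩ := hv
  obtain ⟨x, hx, rfl⟩ := hx
  have e : ∀ a : G, (MulAut.conj g).toMonoidHom a = MulAut.conj g a := fun a => rfl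
  rw [e, e] at hc
  rw [e] at hv4 hx4
  rw [(MulAut.conj g).orderOf_eq] at hv4 hx4
  rw [← map_mul, ← map_mul] at hc
  rcases h v hv x hx hv4 hx4 ((MulAut.conj g).injective hc) with h1 | h1
  · left; rw [h1]
  · right
    rintro _ ⟨a, ha, rfl⟩ _ ⟨b, hb, rfl⟩
    rw [e, e, ← map_mul, ← map_mul, h1 a ha b hb]

theorem cj_mem_unl (w : CVW Om U) (hK : K ∈ unl Om U) (g : G) : cj g K ∈ unl Om U := by
  refine ⟨w.hyp.conj K hK.1 g, fun L hL => ?_⟩
  have h1 := (hK.2 (cj g⁻¹ L) (w.hyp.conj L hL _)).cj w hK.1 (w.hyp.conj L hL _) g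
  rwa [← cj_mul, mul_inv_cancel, cj_one] at h1

/-- the unlinked members are a world of rank one -/
theorem rw_unl (w : CVW Om U) : RW (unl Om U) U :=
  { CVW.sub w (fun _ h => h.1) (fun _ hK g => cj_mem_unl w hK g) with
    lin := fun _ hK L hL v hv x hx hv4 hx4 hc => hK.2 L hL.1 v hv x hx hv4 hx4 hc }

/-- two members normalising each other commute -/
theorem comm_of_norm (w : CVW Om U) (hK : K ∈ Om) (hL : L ∈ Om) (hn : L ≤ normalizer (K : Set G)) (hne : K ≠ L) :
    ∀ x ∈ K, ∀ y ∈ L, x * y = y * x := by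
  haveI : Fact (Nat.Prime 2) := ⟨Nat.prime_two⟩
  have hT : IsPGroup 2 (K ⊔ L : Subgroup G) := (w.two K hK).to_sup_of_normal_left' (w.two L hL) hn
  have h1 : K ∈ OmS Om (K ⊔ L) := mem_OmS_of_le hK ⟨le_rfl, w.two K hK, by rw [relIndex_self]; omega⟩ le_sup_left
  have h2 : L ∈ OmS Om (K ⊔ L) := mem_OmS_of_le hL ⟨le_rfl, w.two L hL, by rw [relIndex_self]; omega⟩ le_sup_right
  exact fun x hx y hy => w.hyp.comm hT h1 h2 hne ⟨hx, (le_sup_left : K ≤ K ⊔ L) hx⟩
    ⟨hy, (le_sup_right : L ≤ K ⊔ L) hy⟩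

/-- **two unlinked members over one involution are in `O_2(G)`** -/
theorem un (w : CVW Om U) (hO : OO (⊤ : Subgroup G) = ⊥) (hR : R1 (unl Om U) ⊤) (hK : K ∈ unl Om U)
    {K' : Subgroup G} (hK' : K' ∈ unl Om U) (hz : zz K' = zz K) (hne : K ≠ K') : K ≤ pCore 2 G := by
  have hor : Orth K K' := ⟨hne, fun x hx y hy => w.comm_of_zz_eq hK.1 hK'.1 hz.symm hne hx hy⟩
  have hadj : ∀ {A B : Subgroup G}, A ∈ unl Om U → B ∈ unl Om U → (¬ ∀ x ∈ A, ∀ y ∈ B, x * y = y * x) →
      CV1.Adj (unl Om U) ⊤ A B := by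
    intro A B hA hB hc
    refine ⟨⟨hA, le_top⟩, ⟨hB, le_top⟩, fun h1 => hc ?_⟩
    rw [hO, le_bot_iff, commutator_eq_bot_iff_le_centralizer] at h1
    exact fun x hx y hy => (mem_centralizer_iff.1 (h1 hx) y hy).symm
  -- the members commute with `K`
  have key : ∀ N ∈ unl Om U, N ≠ K → ∀ x ∈ K, ∀ y ∈ N, x * y = y * x := by
    intro N hN hNK
    by_contra hc
    have h1 : ∀ x ∈ N, ∀ y ∈ K', x * y = y * x := by
      by_contra h2
      exact hR K hK K' hK' le_top le_top hor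
        ((Relation.ReflTransGen.single (hadj hK hN hc)).tail (hadj hN hK' h2))
    apply hc
    refine comm_of_norm w hK.1 hN.1 ?_ (Ne.symm hNK)
    by_contra h2
    obtain ⟨k, hk, hkn, hkk⟩ := exists_sq_not_mem w hN.1 h2
    apply hkn
    refine w.norm_h3 hN.1 hK.1 hk ?_ ?_
    · have h3 : orderOf k = 4 := by
        haveI : Fact (Nat.Prime 2) := ⟨Nat.prime_two⟩
        have h4 := w.hyp.zz_mul hN.1
        have h5 := w.hyp.zz_ne hN.1
        have e2 : (4 : ℕ) = 2 ^ (1 + 1) := by norm_num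
        rw [e2]
        refine orderOf_eq_prime_pow ?_ ?_
        · rw [pow_one, pow_two, hkk]; exact h5
        · rw [show 2 ^ (1 + 1) = 2 + 2 by norm_num, pow_add, pow_two, hkk, h4]
      omega
    · rw [← hz]
      exact h1 k hk _ (w.hyp.zz_mem hK'.1)
  have hKn : ∀ g : G, K ≤ normalizer (cj g K : Set G) ∧ cj g K ≤ normalizer (K : Set G) := by
    intro g
    by_cases h1 : cj g K = K
    · rw [h1]; exact ⟨le_normalizer, le_normalizer⟩
    · have h2 := key _ (cj_mem_unl w hK g) h1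
      constructor
      · exact fun x hx => OneBasic.mem_normalizer_of_cent fun y hy => h2 x hx y hy
      · exact fun y hy => OneBasic.mem_normalizer_of_cent fun x hx => (h2 x hx y hy).symm
  have hnc : normalClosure (K : Set G) ≤ normalizer (K : Set G) := by
    rw [normalClosure, closure_le]
    intro x hx
    obtain ⟨a, ha, hax⟩ := Group.mem_conjugatesOfSet_iff.1 hx
    obtain ⟨c, rfl⟩ := isConj_iff.1 hax
    exact (hKn c).2 (conj_mem_cj ha)
  have hsn : K.IsSubnormal := by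
    refine IsSubnormal.step _ _ (le_normalClosure) (normalClosure_normal (s := (K : Set G))).isSubnormal ?_
    exact (normal_subgroupOf_iff_le_normalizer le_normalClosure).2 hnc
  exact SignalizersComponents.CompBasic.subnormal_pGroup_le_pCore hsn (w.two K hK.1)

/-- the same from `R1Stmt`; in particular for `v ∈ U K` -/
theorem un_of {G : Type u} [Group G] [Finite G] {Om : Set (Subgroup G)} {U : Subgroup G → Subgroup G}
    {K K' : Subgroup G} (hR : R1Stmt.{u}) (w : CVW Om U) (hO : OO (⊤ : Subgroup G) = ⊥) (hK : K ∈ Om) (hK' : K' ∈ Om)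
    (hu : ∀ L ∈ Om, Unl U K L) (hu' : ∀ L ∈ Om, Unl U K' L) (hz : zz K = zz K') (hne : K ≠ K') : K ≤ pCore 2 G :=
  un w hO (hR G _ U hO (rw_unl w)) ⟨hK, hu⟩ ⟨hK', hu'⟩ hz.symm hne

end Cfsg.Agent.Cit.Nil.CVT
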