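import Cfsg.Agent.Cit.Nil.CVT.Sub
import Cfsg.Agent.Cit.Nil.CVT.Un
import Cfsg.Agent.Cit.Nil.CV.BlockOne

/-!
# (6b)(CV), the frame: unlinked members of `C(e)`

* `gTwo_lk` : a bond with `al w v = - al v w` gives the linked root `rf w v` of `v`;
* `exists_mem_A` : commuting roots of `C(e)` and `e` lie in a common weak closure;
* `unl_of_hall` : if no root of the block in `A` is linked to `v`, then `K` is unlinked in `C(e)`;
* `unl_of_zz` : then all members of `C(e)` over `zz K` are unlinked;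
* `block_un` : so `K` is the only member of `C(e)` over `zz K` or `U K ≤ O_2(C(e))`.
-/

set_option autoImplicit false
set_option linter.style.haveILetI false
set_option linter.unusedSectionVars false

namespace Cfsg.Agent.Cit.Nil.CVT

open Subgroup Cfsg Cit Tau CV CV1 Cfsg.Agent.Cit.Comp

universe u

section

variable {G : Type*} [Group G] [Finite G] {Om : Set (Subgroup G)} {U : Subgroup G → Subgroup G}
  {A H K L M N X : Subgroup G} {a e g v w x y : G}

/-- `G_2` bonds -/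
theorem gTwo_lk (h : CVW Om U) (hA : IsA Om U A) (hv : v ∈ RR Om U A) (hw : w ∈ RR Om U A) (hl : Lk Om U v w)
    (hg : al Om U w v = -al Om U v w) : al Om U v (rf Om U w v) = -1 ∧ al Om U (rf Om U w v) v = -1 := by
  have h1 : al Om U v (rf Om U w v) = al Om U v v - al Om U w v * al Om U v w := h.al_rf_left hA hw hv hv.1
  have h2 : al Om U (rf Om U w v) v = al Om U v v - al Om U w v * al Om U v w := by
    rw [h.al_rf' hA hw hv hv.1]
  have h3 : al Om U v v - al Om U w v * al Om U v w = -1 := by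
    rw [h.al_self hA hv, hg]
    rcases (lk_iff v w).1 hl with h3 | h3 <;> rw [h3] <;> decide
  exact ⟨h1.trans h3, h2.trans h3⟩

theorem lk_of_neg_one (h1 : al Om U v w = -1) : Lk Om U v w := (lk_iff v w).2 (Or.inr h1)

/-- commuting roots in `C(e)` -/
theorem exists_mem_A (h : CVW Om U) (hA : IsA Om U A) (he : e ∈ A) (hK : K ∈ Om) (hvK : v ∈ U K) (hv : v ∈ RR Om U A)
    (hL : L ∈ Om) (hLe : L ≤ centralizer {e}) (hx : x ∈ U L) (hx4 : orderOf x = 4) (hc : v * x = x * v) :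
    ∃ m, m * e = e * m ∧ cj m K = K ∧ m * x * m⁻¹ ∈ RR Om U A := by
  obtain ⟨M, hM⟩ : ∃ M, M = normalizer (K : Set G) ⊓ centralizer {e} := ⟨_, rfl⟩
  have hAM : A ≤ M := by
    rw [hM]
    exact le_inf (h.A_le_norm hA hK hvK hv.2.1 hv.1) fun a ha => mem_centralizer_singleton_iff.2 (h.comm hA ha he)
  have hxK : x ∈ normalizer (K : Set G) := by
    refine h.norm_of_norm_U hK hvK hv.2.1 ?_
    rw [← hc, mul_inv_cancel_right]
    exact hvK
  have hxM : x ∈ M := by
    rw [hM]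
    exact ⟨hxK, hLe (h.vch.le L hL hx)⟩
  obtain ⟨S, hS, hAS⟩ := exists_syl_ge (CVW.isA_two hA) hAM
  obtain ⟨T, hT, hxT⟩ := exists_syl_ge (CVW.two_zpowers hx4) (zpowers_le.2 hxM)
  obtain ⟨g, hg, hgS⟩ := hS.exists_conj hT
  have hgM := M.inv_mem hg
  rw [hM] at hgM
  refine ⟨g⁻¹, mem_centralizer_singleton_iff.1 hgM.2, mem_normalizer_iff_cj.1 hgM.1, ?_⟩
  have h1 : g⁻¹ * x * g⁻¹⁻¹ ∈ S := by
    have h2 : x ∈ T := hxT (mem_zpowers x)
    rw [← hgS, mem_cj] at h2
    rwa [inv_inv]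
  have h3 : g⁻¹ * x * g⁻¹⁻¹ ∈ RR Om U S :=
    ⟨h1, orderOf_conj_four hx4 _, cj g⁻¹ L, h.hyp.conj L hL _, h.vch.conj_mem hL hx _⟩
  rwa [← RR_WW, h.WW_eq hA hS.2.1 hAS] at h3

/-- no root of the block is linked to `v`: `K` is unlinked in `C(e)` -/
theorem unl_of_hall (h : CVW Om U) (hA : IsA Om U A) (he : e ∈ A) (hK : K ∈ Om) (hX : SNC (centralizer {e}) K X)
    (hvK : v ∈ U K) (hv : v ∈ RR Om U A) (hall : ∀ u ∈ RB Om U A (BL K X), ¬ Lk Om U v u) (hL : L ∈ Om)
    (hLe : L ≤ centralizer {e}) : Unl U K L := by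
  have hKe : K ≤ centralizer {e} := hX.KX.trans hX.XH
  intro v₁ hv₁ w hw hv4 hw4 hc
  have hvw : v * w = w * v := by
    rcases h.eq_or_inv hK hv₁ hv4 hvK hv.2.1 with h1 | h1
    · rw [h1]; exact hc
    · rw [h1]; exact ((show Commute v₁ w from hc).inv_left).eq
  obtain ⟨m, hme, hmK, hmw⟩ := exists_mem_A h hA he hK hvK hv hL hLe hw hw4 hvw
  have hL' : cj m L ∈ Om := h.hyp.conj L hL m
  have hmH : m ∈ centralizer {e} := mem_centralizer_singleton_iff.2 hme
  have hLe' : cj m L ≤ centralizer {e} := by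
    have h1 := cj_mono m hLe
    rwa [mem_normalizer_iff_cj.1 (le_normalizer hmH)] at h1
  have hwL' : m * w * m⁻¹ ∈ U (cj m L) := h.vch.conj_mem hL hw m
  -- linked members of the block
  have key : ∀ w' ∈ RR Om U A, ∀ L' ∈ Om, w' ∈ U L' → L' ≤ centralizer {e} → al Om U v w' = al Om U w' v →
      ¬ Lk Om U v w' := by
    intro w' hw' L' hL' hwL' hLe' hs hl
    obtain ⟨y, hy, x, hx, hxL⟩ := third h hA hK hvK hv hL' hwL' hw' hs hl.1 hl.2
    exact hall w' ⟨hw', L', hX.lk_BL self_mem_BL hLe' hy hx hxL, hwL'⟩ hl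
  by_cases h0 : al Om U v (m * w * m⁻¹) = 0
  · right
    have h1 := (h.comm_of_al_zero hA hK hvK hv.2.1 hv.1 hL' hwL' hmw.2.1 hmw.1 h0).2
    intro x hx y hy
    have hx' : m * x * m⁻¹ ∈ K := by
      rw [← hmK]; exact conj_mem_cj hx
    have h2 := h1 _ hx' _ (conj_mem_cj (g := m) hy)
    have h3 : m * (x * y) * m⁻¹ = m * (y * x) * m⁻¹ := by
      calc m * (x * y) * m⁻¹ = m * x * m⁻¹ * (m * y * m⁻¹) := by group
        _ = m * y * m⁻¹ * (m * x * m⁻¹) := h2
        _ = m * (y * x) * m⁻¹ := by group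
    simpa using h3
  by_cases h2 : al Om U v (m * w * m⁻¹) = 2
  · left
    have h3 : K = cj m L := by
      rcases h.al_two hA hv hmw h2 with h4 | h4
      · rw [h4] at hwL'
        exact h.eq_of_mem hK hL' hvK hwL' hv.2.1
      · rw [h4] at hwL'
        refine h.eq_of_mem hK hL' hvK ?_ hv.2.1
        rw [← inv_inv v]
        exact (U _).inv_mem hwL'
    have h4 : cj m K = cj m L := by rw [hmK]; exact h3
    exact cj_inj.1 h4
  · exfalso
    have hl : Lk Om U v (m * w * m⁻¹) := ⟨h0, h2⟩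
    rcases h.al_odd_symm hA hv hmw h0 h2 with h3 | h3
    · exact key _ hmw _ hL' hwL' hLe' h3.symm hl
    · obtain ⟨g1, g2⟩ := gTwo_lk h hA hv hmw hl h3
      obtain ⟨L₁, hL₁, hwL₁, y, hy, hyX, hyA, -, hrf⟩ := h.exists_root hA hmw
      have hLL : L₁ = cj m L := h.eq_of_mem hL₁ hL' hwL₁ hwL' hmw.2.1
      rw [hLL] at hy
      have h4 : rf Om U (m * w * m⁻¹) v ∈ U (cj y K) := by
        rw [← hrf v hv.1]
        exact h.vch.conj_mem hK hvK y
      have h5 : cj y K ≤ centralizer {e} := by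
        have h6 := cj_mono y hKe
        rwa [mem_normalizer_iff_cj.1 (le_normalizer (hLe' hy))] at h6
      exact key _ (h.rf_mem hA hmw hv) _ (h.hyp.conj K hK y) h4 h5 (g1.trans g2.symm) (lk_of_neg_one g1)

/-- members over the same involution -/
theorem unl_of_zz (h : CVW Om U) (hK : K ∈ Om) (hM : M ∈ Om) (hz : zz K = zz M)
    (hu : ∀ L ∈ Om, L ≤ H → Unl U K L) : ∀ L ∈ Om, L ≤ H → Unl U M L := by
  intro L hL hLH
  by_cases hKM : K = M
  · rw [← hKM]; exact hu L hL hLH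
  intro v' hv' w hw hv4' hw4 hc
  by_contra hcon
  push Not at hcon
  obtain ⟨hML, x₀, hx₀, y₀, hy₀, hxy⟩ := hcon
  obtain ⟨v, hv, hv4⟩ := h.exists_v hK
  have hKv := h.sq_eq hK hv hv4
  have hMv := h.sq_eq hM hv' hv4'
  -- `w` normalises `K`
  have hwz : w * zz K = zz K * w := by
    rw [hz, ← hMv]
    exact ((show Commute w v' from hc.symm).mul_right (show Commute w v' from hc.symm)).eq
  have hwK : w ∈ normalizer (K : Set G) := h.norm_h3 hL hK (h.vch.le L hL hw) (by rw [hw4]) hwz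
  have hvw : v * w = w * v := (h.comm_of_norm hL hK hw hw4 hv hv4 hwK).symm
  have hvv : v * v' = v' * v := h.comm_of_zz_eq hK hM hz hKM (h.vch.le K hK hv) (h.vch.le M hM hv')
  -- a common weak closure
  haveI : Fact (Nat.Prime 2) := ⟨Nat.prime_two⟩
  have hP1 : IsPGroup 2 (zpowers v' ⊔ zpowers w : Subgroup G) := by
    refine (CVW.two_zpowers hv4').to_sup_of_normal_right' (CVW.two_zpowers hw4) ?_
    rw [zpowers_le]
    refine centralizer_le_normalizer _ ?_
    rw [← zpowers_le, zpowers_le]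
    intro y hy
    obtain ⟨i, rfl⟩ := mem_zpowers_iff.1 hy
    exact ((show Commute v' w from hc).zpow_right i).symm.eq
  have hP : IsPGroup 2 (zpowers v ⊔ (zpowers v' ⊔ zpowers w) : Subgroup G) := by
    refine (CVW.two_zpowers hv4).to_sup_of_normal_right' hP1 ?_
    rw [zpowers_le]
    refine centralizer_le_normalizer _ ?_
    have h1 : zpowers v' ⊔ zpowers w ≤ centralizer {v} := by
      rw [sup_le_iff, zpowers_le, zpowers_le, mem_centralizer_singleton_iff, mem_centralizer_singleton_iff]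
      exact ⟨hvv.symm, hvw.symm⟩
    intro y hy
    exact mem_centralizer_singleton_iff.1 (h1 hy)
  obtain ⟨S, hS⟩ := hP.exists_le_sylow
  obtain ⟨B, hB⟩ : ∃ B, B = WW Om U (S : Subgroup G) := ⟨_, rfl⟩
  have hBA : IsA Om U B := ⟨S, hB⟩
  have hvB : v ∈ RR Om U B := by
    rw [hB, RR_WW]; exact ⟨hS (mem_sup_left (mem_zpowers v)), hv4, K, hK, hv⟩
  have hvB' : v' ∈ RR Om U B := by
    rw [hB, RR_WW]; exact ⟨hS (mem_sup_right (mem_sup_left (mem_zpowers v'))), hv4', M, hM, hv'⟩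
  have hwB : w ∈ RR Om U B := by
    rw [hB, RR_WW]; exact ⟨hS (mem_sup_right (mem_sup_right (mem_zpowers w))), hw4, L, hL, hw⟩
  -- `M` and `L` are linked
  have hl : Lk Om U w v' := by
    refine ⟨fun h0 => ?_, fun h2 => ?_⟩
    · exact hxy ((h.comm_of_al_zero hBA hL hw hw4 hwB.1 hM hv' hv4' hvB'.1 h0).2 y₀ hy₀ x₀ hx₀).symm
    · rcases h.al_two hBA hwB hvB' h2 with h3 | h3
      · exact hML (h.eq_of_mem hM hL hv' (by rw [h3]; exact hw) hv4')
      · exact hML (h.eq_of_mem hM hL hv' (by rw [h3]; exact (U L).inv_mem hw) hv4')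
  obtain ⟨L₁, hL₁, hwL₁, y, hy, hyX, hyB, hyy, hrf⟩ := h.exists_root hBA hwB
  have hLL : L₁ = L := h.eq_of_mem hL₁ hL hwL₁ hw hw4
  rw [hLL] at hy hyX
  -- `y` moves `zz K`
  have hmove : y * zz K * y⁻¹ = zz K * zz L := by
    have h1 := hrf (zz K) (h.zz_mem_A hBA hK hv hv4 hvB.1)
    rw [h1, rf]
    have h2 : al Om U w (zz K) = 2 := by
      rw [hz, ← hMv, h.al_sq hBA hwB hvB'.1]
      exact (lk_iff' w v').1 hl
    rw [h2]
    have h3 : (-2 : ZMod 4) = 2 := by decide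
    rw [h3, h.pw_two_eq hL hw hw4]
  have hne : al Om U w v ≠ 0 := by
    intro h0
    have h1 := (h.comm_of_al_zero hBA hL hw hw4 hwB.1 hK hv hv4 hvB.1 h0).2 y hy (zz K) (h.hyp.zz_mem hK)
    rw [h1, mul_inv_cancel_right] at hmove
    exact h.hyp.zz_ne hL (left_eq_mul.1 hmove)
  have hne2 : al Om U w v ≠ 2 := by
    intro h2
    have h1 : al Om U w (v * v) = 0 := by
      rw [h.al_sq hBA hwB hvB.1, h2]; decide
    rw [hKv, hz, ← hMv, h.al_sq hBA hwB hvB'.1, (lk_iff' w v').1 hl] at h1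
    exact absurd h1 (by decide)
  rcases hu L hL hLH v hv w hw hv4 hw4 hvw with h1 | h1
  · rw [← h1] at hw
    rcases h.eq_or_inv hK hv hv4 hw hw4 with h3 | h3
    · exact hne2 (by rw [h3, h.al_self hBA hvB])
    · apply hne2
      rw [h3, h.al_neg hBA hvB hvB.1, h.al_self hBA hvB]
      decide
  · apply hne
    refine h.al_eq hBA hL hw hw4 hwB.1 hy hyX hvB.1 ?_
    rw [neg_zero, pw_zero, mul_one, ← h1 v (h.vch.le K hK hv) y hy, mul_inv_cancel_right]

end

section

variable {G : Type u} [Group G] [Finite G] {Om : Set (Subgroup G)} {U : Subgroup G → Subgroup G}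
  {A H K L M N X : Subgroup G} {a e g v w x y : G}

theorem unl_restr (hu : ∀ L ∈ Om, L ≤ H → Unl U K L) (hKH : K ≤ H) :
    ∀ J ∈ restr Om H, Unl (uH H U) (K.subgroupOf H) J := by
  intro J hJ v hv w hw hv4 hw4 hc
  have hKe : (K.subgroupOf H).map H.subtype = K := map_subgroupOf_eq_of_le hKH
  rw [mem_uH, hKe] at hv
  rw [mem_uH] at hw
  rw [← orderOf_coe] at hv4 hw4
  rcases hu (J.map H.subtype) hJ (map_subtype_le J) v hv w hw hv4 hw4 (congrArg Subtype.val hc) with h1 | h1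
  · left
    apply Subgroup.map_injective H.subtype_injective
    rw [hKe, h1]
  · right
    intro x hx y hy
    exact Subtype.ext (h1 x hx y ⟨y, hy, rfl⟩)

theorem coe_zz (h : CVW Om U) (hK : K ∈ Om) (hKH : K ≤ H) : ((zz (K.subgroupOf H) : H) : G) = zz K := by
  have hKe : (K.subgroupOf H).map H.subtype = K := map_subgroupOf_eq_of_le hKH
  have h1 : ((zz (K.subgroupOf H) : H) : G) = zz ((K.subgroupOf H).map H.subtype) := by
    have h3 := (CVW.restr h H).hyp.orderOf_zz (subgroupOf_mem_restr hK hKH)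
    refine h.hyp.uniq _ (by rw [hKe]; exact hK) _ ?_ ?_
    · exact ⟨_, (CVW.restr h H).hyp.zz_mem (subgroupOf_mem_restr hK hKH), rfl⟩
    · rw [orderOf_coe]; exact h3
  rwa [hKe] at h1

/-- two members of `H` over one involution, one unlinked in `H` -/
theorem le_of_unl (hR : R1Stmt.{u}) (h : CVW Om U) (hH : pPrimeCore 2 H = ⊥) (hK : K ∈ Om) (hM : M ∈ Om)
    (hz : zz K = zz M) (hne : K ≠ M) (hKH : K ≤ H) (hMH : M ≤ H) (hu : ∀ L ∈ Om, L ≤ H → Unl U K L) :
    K ≤ (pCore 2 H).map H.subtype := by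
  have h1 : zz (K.subgroupOf H) = zz (M.subgroupOf H) := by
    apply Subtype.ext
    rw [coe_zz h hK hKH, coe_zz h hM hMH]
    exact hz
  have h2 := un_of hR (CVW.restr h H) (OO_top_eq_bot hH) (subgroupOf_mem_restr hK hKH) (subgroupOf_mem_restr hM hMH)
    (unl_restr hu hKH) (unl_restr (unl_of_zz h hK hM hz hu) hMH) h1 (fun h3 => hne (by
      rw [← map_subgroupOf_eq_of_le hKH, h3, map_subgroupOf_eq_of_le hMH]))
  rw [← map_subgroupOf_eq_of_le hKH]
  exact map_mono h2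

end

end Cfsg.Agent.Cit.Nil.CVT
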